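import Mathlib
import Cfsg.Agent.H37.FkKit
import Cfsg.Agent.S1250
import Cfsg.Agent.H10.SylowUtil
import Cfsg.Agent.H3.Fitting

/-!
# S5161, piece LX: groups with a large subgroup of symplectic type
-/

set_option autoImplicit false

namespace Cfsg.Agent.H82.FkLx

open Cfsg Subgroup Cfsg.Agent.H37.FK

universe u

section Gen

variable {G : Type*} [Group G]

theorem odd_conj {g : G} (hg : Odd (orderOf g)) (h : G) : Odd (orderOf (h * g * h⁻¹)) := by
  have : orderOf (h * g * h⁻¹) = orderOf g := by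
    simpa using (MulAut.conj h).orderOf_eq g
  rwa [this]

theorem odd_map {H : Type*} [Group H] (f : G →* H) {g : G} (hg : Odd (orderOf g)) :
    Odd (orderOf (f g)) := hg.of_dvd_nat (orderOf_map_dvd f g)

theorem o2_normal : (O2 (⊤ : Subgroup G)).Normal := by
  refine ⟨fun x hx h => ?_⟩
  have : O2 (⊤ : Subgroup G) ≤ (O2 (⊤ : Subgroup G)).comap (MulAut.conj h).toMonoidHom :=
    (closure_le _).2 fun g hg => subset_closure ⟨trivial, odd_conj hg.2 h⟩
  exact this hx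

theorem mem_o2 {H : Subgroup G} {g : G} (h : g ∈ H) (hg : Odd (orderOf g)) : g ∈ O2 H :=
  subset_closure ⟨h, hg⟩

theorem exists_pow_odd [Finite G] (g : G) : ∃ k, Odd (orderOf (g ^ 2 ^ k)) := by
  obtain ⟨k, m, hm, e⟩ := Nat.exists_eq_two_pow_mul_odd (orderOf_pos g).ne'
  refine ⟨k, hm.of_dvd_nat (orderOf_dvd_of_pow_eq_one ?_)⟩
  rw [← pow_mul, ← e, pow_orderOf_eq_one]

theorem eq_top_of [Finite G] (S : Sylow 2 G) (W : Subgroup G) [W.Normal]
    (hS : (S : Subgroup G) ≤ W) (ho : ∀ g : G, Odd (orderOf g) → g ∈ W) : W = ⊤ := by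
  have h2 : IsPGroup 2 (G ⧸ W) := by
    intro x
    obtain ⟨g, rfl⟩ := QuotientGroup.mk_surjective x
    obtain ⟨k, hk⟩ := exists_pow_odd g
    exact ⟨k, by rw [← QuotientGroup.mk_pow, QuotientGroup.eq_one_iff]; exact ho _ hk⟩
  obtain ⟨n, hn⟩ := IsPGroup.iff_card.1 h2
  have h3 : ¬ 2 ∣ W.index := fun h => S.not_dvd_index (h.trans (index_dvd_of_le hS))
  rw [← index_eq_one]
  rw [← index_eq_card] at hn
  rw [hn] at h3 ⊢
  cases n with
  | zero => rfl
  | succ n => exact absurd (dvd_pow_self 2 (Nat.succ_ne_zero n)) h3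

/-- an element of odd order moving `x` by a fixed 2-element fixes `x` -/
theorem fix_of_odd {g x t : G} (h : g * x * g⁻¹ = t * x) (c : g * t = t * g)
    (hg : Odd (orderOf g)) (ht : Two t) : t = 1 := by
  have key : ∀ n : ℕ, g ^ n * x * (g ^ n)⁻¹ = t ^ n * x := by
    intro n
    induction n with
    | zero => simp
    | succ n ih =>
      have c' : g * t ^ n = t ^ n * g := (Commute.pow_right (show Commute g t from c) n).eq
      calc g ^ (n + 1) * x * (g ^ (n + 1))⁻¹ = g * (g ^ n * x * (g ^ n)⁻¹) * g⁻¹ := by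
            rw [pow_succ']; group
        _ = (g * t ^ n) * x * g⁻¹ := by rw [ih]; group
        _ = t ^ n * (g * x * g⁻¹) := by rw [c']; group
        _ = t ^ (n + 1) * x := by rw [h, pow_succ]; group
  have h1 := key (orderOf g)
  rw [pow_orderOf_eq_one] at h1
  have h2 : t ^ orderOf g = 1 := by simpa using h1.symm
  exact ht.eq_one (hg.of_dvd_nat (orderOf_dvd_of_pow_eq_one h2))

/-- transfer into an abelian Sylow subgroup -/
theorem sylow_eq_bot [Finite G] (P : Sylow 2 G)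
    (gen : ∀ W : Subgroup G, (∀ g : G, Odd (orderOf g) → g ∈ W) → W = ⊤)
    (h3 : ∀ a ∈ (P : Subgroup G), ∀ b ∈ (P : Subgroup G),
      a ∈ center G ∨ b ∈ center G ∨ a * b ∈ center G) : (P : Subgroup G) = ⊥ := by
  have hab : ∀ a ∈ (P : Subgroup G), ∀ b ∈ (P : Subgroup G), a * b = b * a := by
    intro a ha b hb
    rcases h3 a ha b hb with h | h | h
    · exact (mem_center_iff.1 h b).symm
    · exact mem_center_iff.1 h a
    · have := mem_center_iff.1 h a
      rw [mul_assoc a b a] at this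
      exact mul_left_cancel this
  letI : CommGroup (P : Subgroup G) :=
    { (inferInstance : Group (P : Subgroup G)) with
      mul_comm := fun a b => Subtype.ext (hab _ a.2 _ b.2) }
  let V : G →* (P : Subgroup G) := MonoidHom.transfer (MonoidHom.id (P : Subgroup G))
  have hV : V.ker = ⊤ := gen _ fun g hg => by
    rw [MonoidHom.mem_ker]
    obtain ⟨k, hk⟩ := P.isPGroup' (V g)
    exact Two.eq_one ⟨k, hk⟩ (odd_map V hg)
  have key : ∀ s ∈ (P : Subgroup G),
      (∀ (k : ℕ) (g₀ : G), g₀⁻¹ * s ^ k * g₀ ∈ (P : Subgroup G) → g₀⁻¹ * s ^ k * g₀ = s ^ k) →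
      s = 1 := by
    intro s hs hk
    have h1 : V s = 1 := by rw [← MonoidHom.mem_ker, hV]; trivial
    have h2 := MonoidHom.transfer_eq_pow (MonoidHom.id (P : Subgroup G)) s hk
    have h4 : s ^ (P : Subgroup G).index = 1 := congrArg Subtype.val (h2.symm.trans h1)
    refine (Two.of_mem P.isPGroup' hs).eq_one (Odd.of_dvd_nat ?_ (orderOf_dvd_of_pow_eq_one h4))
    exact Nat.not_even_iff_odd.1 fun h => P.not_dvd_index (even_iff_two_dvd.1 h)
  have hZ : ∀ s ∈ (P : Subgroup G), s ∈ center G → s = 1 := by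
    intro s hs hc
    refine key s hs fun k g _ => ?_
    rw [mul_assoc, ← mem_center_iff.1 (pow_mem hc k) g]
    group
  refine eq_bot_iff.2 fun s hs => mem_bot.2 (key s hs fun k g hg => ?_)
  have hsk := pow_mem hs k
  rcases h3 _ hg _ (inv_mem hsk) with h | h | h
  · have h1 := hZ _ hg h
    have h2 : s ^ k = 1 := by
      have := congrArg (fun y => g * y * g⁻¹) h1
      simpa [mul_assoc] using this
    rw [h1, h2]
  · have h1 := hZ _ (inv_mem hsk) h
    rw [inv_eq_one] at h1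
    rw [h1]
    simp
  · exact mul_inv_eq_one.1 (hZ _ (mul_mem hg (inv_mem hsk)) h)

/-- the transfer lemma modulo a normal subgroup -/
theorem sylow_le [Finite G] (S : Sylow 2 G) (T : Subgroup G) [T.Normal]
    (hS : (S : Subgroup G) ≤ T ⊔ O2 ⊤) (Z : G → Prop)
    (hZ : ∀ a, Z a → ∀ g : G, Odd (orderOf g) → g * a * g⁻¹ * a⁻¹ ∈ T)
    (h3 : ∀ a ∈ (S : Subgroup G), ∀ b ∈ (S : Subgroup G), Z a ∨ Z b ∨ Z (a * b)) :
    (S : Subgroup G) ≤ T := by
  haveI : (O2 (⊤ : Subgroup G)).Normal := o2_normal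
  have htop : T ⊔ O2 ⊤ = ⊤ :=
    eq_top_of S _ hS fun g hg => mem_sup_right (mem_o2 trivial hg)
  let π := QuotientGroup.mk' T
  have hπ : Function.Surjective π := QuotientGroup.mk'_surjective T
  have gen : ∀ W : Subgroup (G ⧸ T), (∀ g : G, Odd (orderOf g) → π g ∈ W) → W = ⊤ := by
    intro W hW
    have h1 : T ⊔ O2 ⊤ ≤ W.comap π := by
      refine sup_le (fun t ht => ?_) ((closure_le _).2 fun g hg => hW g hg.2)
      rw [mem_comap, (QuotientGroup.eq_one_iff t).2 ht |> fun e => show π t = 1 from e]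
      exact W.one_mem
    rw [htop] at h1
    refine eq_top_iff.2 fun x _ => ?_
    obtain ⟨g, rfl⟩ := hπ x
    exact h1 trivial
  have hc : ∀ a, Z a → π a ∈ center (G ⧸ T) := by
    intro a ha
    have := gen (centralizer {π a}) fun g hg => by
      rw [mem_centralizer_singleton_iff, ← mul_inv_eq_one, ← map_mul, ← map_mul, ← map_inv,
        ← map_mul]
      refine (QuotientGroup.eq_one_iff _).2 ?_
      simpa [mul_assoc] using hZ a ha g hg
    refine mem_center_iff.2 fun x => ?_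
    have hx : x ∈ centralizer {π a} := by rw [this]; trivial
    exact mem_centralizer_singleton_iff.1 hx
  have hP := sylow_eq_bot (S.mapSurjective hπ)
    (fun W hW => gen W fun g hg => hW _ (odd_map π hg)) (by
      rw [Sylow.coe_mapSurjective]
      rintro _ ⟨a, ha, rfl⟩ _ ⟨b, hb, rfl⟩
      rw [← map_mul]
      exact (h3 a ha b hb).imp (hc a) (Or.imp (hc b) (hc _)))
  rw [Sylow.coe_mapSurjective, Subgroup.map_eq_bot_iff, QuotientGroup.ker_mk'] at hP
  exact hP

/-- the same in a subgroup `N` normalising `T` -/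
theorem sylow_le' [Finite G] (S : Sylow 2 G) (T N : Subgroup G) (hSN : (S : Subgroup G) ≤ N)
    (hTN : T ≤ N) (hN : N ≤ normalizer (T : Set G))
    (hS : (S : Subgroup G) ≤ T ⊔ O2 N) (Z : G → Prop)
    (hZ : ∀ a, Z a → ∀ g ∈ N, Odd (orderOf g) → g * a * g⁻¹ * a⁻¹ ∈ T)
    (h3 : ∀ a ∈ (S : Subgroup G), ∀ b ∈ (S : Subgroup G), Z a ∨ Z b ∨ Z (a * b)) :
    (S : Subgroup G) ≤ T := by
  haveI : (T.subgroupOf N).Normal := (normal_subgroupOf_iff_le_normalizer hTN).2 hN
  have h1 : T ⊔ O2 N ≤ (T.subgroupOf N ⊔ O2 (⊤ : Subgroup N)).map N.subtype := by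
    refine sup_le (fun t ht => ⟨⟨t, hTN ht⟩, mem_sup_left ht, rfl⟩)
      ((closure_le _).2 fun g hg => ⟨⟨g, hg.1⟩, mem_sup_right (mem_o2 trivial ?_), rfl⟩)
    rw [← orderOf_coe]
    exact hg.2
  have := sylow_le (S.subtype hSN) (T.subgroupOf N) (fun x hx => by
      obtain ⟨y, hy, e⟩ := h1 (hS (show (x : G) ∈ (S : Subgroup G) from hx))
      rwa [← Subtype.ext e]) (fun a => Z a)
    (fun a ha g hg => hZ a ha g g.2 (by rwa [orderOf_coe]))
    (fun a ha b hb => h3 a ha b hb)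
  intro x hx
  exact this (show (⟨x, hSN hx⟩ : N) ∈ (S.subtype hSN : Subgroup N) from hx)

end Gen

/-- the local setting inside `C = C(z)` -/
structure Loc {C : Type*} [Group C] (z : C) (Q : Subgroup C) : Prop where
  cz : z ∈ center C
  z2 : z * z = 1
  two : IsPGroup 2 Q
  sq : ∀ x ∈ Q, x * x ∈ center C
  cen : ∀ x, (∀ y ∈ Q, x * y = y * x) → x * x = 1 → x = 1 ∨ x = z
  self : ∀ x, (∀ y ∈ Q, x * y = y * x) → x ∈ Q
  odd : ∃ g : C, g ≠ 1 ∧ Odd (orderOf g)

section Loc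

variable {C : Type*} [Group C] {z : C} {Q : Subgroup C} [hQ : Q.Normal]

/-- normal 2-subgroups lie in `Q` -/
theorem Loc.core [Finite C] (h : Loc z Q) (hN : NSC2 (C ⧸ Q)) (R : Subgroup C) [hR : R.Normal]
    (h2 : IsPGroup 2 R) : R ≤ Q := by
  obtain ⟨S⟩ : Nonempty (Sylow 2 (C ⧸ Q)) := inferInstance
  let π := QuotientGroup.mk' Q
  haveI : (R.map π).Normal := hR.map π (QuotientGroup.mk'_surjective Q)
  by_contra hne
  have h0 : R.map π ≠ ⊥ := fun e => hne (by
    rwa [Subgroup.map_eq_bot_iff, QuotientGroup.ker_mk'] at e)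
  have h1 := (hN S (R.map π) ⟨(h2.map π).le_sylow_of_normal S,
    fun x hx g _ => Normal.conj_mem inferInstance x hx g⟩ h0).2
  rw [normalClosure_eq_self] at h1
  obtain ⟨g, g1, hg⟩ := h.odd
  have h3 : π g = 1 :=
    (Two.of_mem (h2.map π) (h1 (mem_o2 trivial (odd_map π hg)))).eq_one (odd_map π hg)
  exact g1 ((Two.of_mem h.two ((QuotientGroup.eq_one_iff g).1 h3)).eq_one hg)

omit hQ in
theorem Loc.comm (h : Loc z Q) {a b : C} (ha : a ∈ Q) (hb : b ∈ Q) :
    a * b * a⁻¹ * b⁻¹ ∈ center C := by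
  have : a * b * a⁻¹ * b⁻¹ = a * a * (a⁻¹ * b * (a⁻¹ * b)) * (b⁻¹ * b⁻¹) := by group
  rw [this]
  exact mul_mem (mul_mem (h.sq a ha) (h.sq _ (Q.mul_mem (Q.inv_mem ha) hb)))
    (h.sq _ (Q.inv_mem hb))

/-- the elements acting trivially on `Q / (T ∩ Q)` -/
def stab (Q T : Subgroup C) [hQ : Q.Normal] (hT : ∀ x ∈ T, x ∈ Q → ∀ g, g * x * g⁻¹ ∈ T) :
    Subgroup C where
  carrier := {c | ∀ x ∈ Q, c * x * c⁻¹ * x⁻¹ ∈ T}
  one_mem' x _ := by simp
  mul_mem' {c d} hc hd x hx := by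
    have : c * d * x * (c * d)⁻¹ * x⁻¹ = c * (d * x * d⁻¹ * x⁻¹) * c⁻¹ * (c * x * c⁻¹ * x⁻¹) := by
      group
    rw [this]
    exact T.mul_mem (hT _ (hd x hx) (Q.mul_mem (hQ.conj_mem x hx d) (Q.inv_mem hx)) c) (hc x hx)
  inv_mem' {c} hc x hx := by
    have h1 := T.inv_mem (hc _ (hQ.conj_mem x hx c⁻¹))
    have : (c * (c⁻¹ * x * c⁻¹⁻¹) * c⁻¹ * (c⁻¹ * x * c⁻¹⁻¹)⁻¹)⁻¹ = c⁻¹ * x * c⁻¹⁻¹ * x⁻¹ := by
      group
    rwa [this] at h1

theorem stab_normal {T : Subgroup C} (hT : ∀ x ∈ T, x ∈ Q → ∀ g, g * x * g⁻¹ ∈ T) :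
    (stab Q T hT).Normal := by
  refine ⟨fun c hc g x hx => ?_⟩
  have hx' := hQ.conj_mem x hx g⁻¹
  have h1 := hT _ (hc _ hx') (Q.mul_mem (hQ.conj_mem _ hx' c) (Q.inv_mem hx')) g
  have : g * (c * (g⁻¹ * x * g⁻¹⁻¹) * c⁻¹ * (g⁻¹ * x * g⁻¹⁻¹)⁻¹) * g⁻¹ =
      g * c * g⁻¹ * x * (g * c * g⁻¹)⁻¹ * x⁻¹ := by group
  rwa [this] at h1

variable {S : Sylow 2 C} {T : Subgroup C}

theorem Loc.le_sylow [Finite C] (h : Loc z Q) (S : Sylow 2 C) : Q ≤ S :=
  h.two.le_sylow_of_normal S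

theorem Loc.t0 [Finite C] (h : Loc z Q) (hT : IsStronglyClosed T (S : Subgroup C)) :
    ∀ x ∈ T, x ∈ Q → ∀ g, g * x * g⁻¹ ∈ T := fun x hx hx' g =>
  hT.2 x hx g (h.le_sylow S (hQ.conj_mem x hx' g))

theorem Loc.le_stab [Finite C] (h : Loc z Q) (hT : IsStronglyClosed T (S : Subgroup C)) :
    T ≤ stab Q T (h.t0 hT) := by
  intro t ht x hx
  have : t * x * t⁻¹ * x⁻¹ = t * (x * t⁻¹ * x⁻¹) := by group
  rw [this]
  exact T.mul_mem ht (sc_normal hT (h.le_sylow S hx) (T.inv_mem ht))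

/-- elements of odd order act trivially on `Q / (T ∩ Q)`, and `TQ` has index at most two -/
theorem Loc.big [Finite C] (h : Loc z Q) (hN : NSC2 (C ⧸ Q))
    (hT : IsStronglyClosed T (S : Subgroup C)) (hTQ : ¬ T ≤ Q) :
    (∀ g : C, Odd (orderOf g) → ∀ x ∈ Q, g * x * g⁻¹ * x⁻¹ ∈ T) ∧
    ∀ a ∈ (S : Subgroup C), ∀ b ∈ (S : Subgroup C), a ∈ T ⊔ Q ∨ b ∈ T ⊔ Q ∨ a * b ∈ T ⊔ Q := by
  let π := QuotientGroup.mk' Q
  have hπ : Function.Surjective π := QuotientGroup.mk'_surjective Q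
  have h0 : T.map π ≠ ⊥ := fun e => hTQ (by
    rwa [Subgroup.map_eq_bot_iff, QuotientGroup.ker_mk'] at e)
  obtain ⟨h1, h2⟩ := hN (S.mapSurjective hπ) (T.map π) (S1250.result S T hT Q) h0
  have hc : ∀ a, π a ∈ T.map π → a ∈ T ⊔ Q := fun a ha => by
    have : a ∈ (T.map π).comap π := ha
    rwa [comap_map_eq, QuotientGroup.ker_mk'] at this
  refine ⟨fun g hg => ?_, fun a ha b hb => ?_⟩
  · haveI := stab_normal (h.t0 hT)
    set D := stab Q T (h.t0 hT)
    haveI : (D.map π).Normal := Normal.map inferInstance π hπ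
    have h3 : normalClosure (T.map π : Set (C ⧸ Q)) ≤ D.map π :=
      normalClosure_le_normal (map_mono (h.le_stab hT))
    obtain ⟨d, hd, e⟩ := h3 (h2 (mem_o2 trivial (odd_map π hg)))
    have hq : d⁻¹ * g ∈ Q := QuotientGroup.eq.1 e
    have h4 : QuotientGroup.mk' D g = QuotientGroup.mk' D (d⁻¹ * g) := by
      rw [map_mul, map_inv, show QuotientGroup.mk' D d = 1 from
        (QuotientGroup.eq_one_iff d).2 hd, inv_one, one_mul]
    have h5 : QuotientGroup.mk' D g = 1 :=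
      Two.eq_one (h4 ▸ (Two.of_mem h.two hq).map _) (odd_map _ hg)
    exact (QuotientGroup.eq_one_iff g).1 h5
  · have ha' : π a ∈ (S.mapSurjective hπ : Subgroup (C ⧸ Q)) := mem_map_of_mem π ha
    have hb' : π b ∈ (S.mapSurjective hπ : Subgroup (C ⧸ Q)) := mem_map_of_mem π hb
    rcases (Nat.dvd_prime Nat.prime_two).1 h1 with e | e
    · exact Or.inl (hc a (relIndex_eq_one.1 e ha'))
    · have := mul_mem_iff_of_index_two (a := ⟨π a, ha'⟩) (b := ⟨π b, hb'⟩) e
      by_cases h6 : π a ∈ T.map π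
      · exact Or.inl (hc a h6)
      by_cases h7 : π b ∈ T.map π
      · exact Or.inr (Or.inl (hc b h7))
      refine Or.inr (Or.inr (hc _ ?_))
      rw [map_mul]
      exact this.2 ⟨fun h8 => absurd h8 h6, fun h8 => absurd h8 h7⟩

/-- `Z(T) ≤ Q` -/
theorem Loc.zt [Finite C] (h : Loc z Q) (hN : NSC2 (C ⧸ Q))
    (hT : IsStronglyClosed T (S : Subgroup C)) {y : C} (hy : y ∈ T)
    (hc : ∀ t ∈ T, t * y = y * t) : y ∈ Q := by
  haveI := stab_normal (h.t0 hT)
  haveI : (T ⊓ Q).Normal :=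
    ⟨fun x hx g => ⟨h.t0 hT x hx.1 hx.2 g, hQ.conj_mem x hx.2 g⟩⟩
  refine h.core hN (stab Q T (h.t0 hT) ⊓ centralizer ((T ⊓ Q : Subgroup C) : Set C)) ?_
    (mem_inf.2 ⟨h.le_stab hT hy, mem_centralizer_iff.2 fun t ht => hc t ht.1⟩)
  refine isPGroup_of_two fun e he => ?_
  obtain ⟨k, hk⟩ := exists_pow_odd e
  have hg := pow_mem he (2 ^ k)
  refine ⟨k, (Two.of_mem h.two (h.self _ fun x hx => ?_)).eq_one hk⟩
  set g := e ^ 2 ^ k
  have ht : g * x * g⁻¹ * x⁻¹ ∈ T ⊓ Q :=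
    mem_inf.2 ⟨hg.1 x hx, Q.mul_mem (hQ.conj_mem x hx g) (Q.inv_mem hx)⟩
  have := fix_of_odd (g := g) (x := x) (t := g * x * g⁻¹ * x⁻¹) (by group)
    (mem_centralizer_iff.1 hg.2 _ ht).symm hk (Two.of_mem h.two ht.2)
  calc g * x = g * x * g⁻¹ * x⁻¹ * (x * g) := by group
    _ = x * g := by rw [this, one_mul]

/-- an involution of `Q` commuting with `[Q, g]` is fixed by `g` -/
theorem Loc.fix (h : Loc z Q) {y g : C} (hy : y ∈ Q) (y2 : y * y = 1) (hg : Odd (orderOf g))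
    (hc : ∀ x ∈ Q, g * x * g⁻¹ * x⁻¹ * y = y * (g * x * g⁻¹ * x⁻¹)) : g * y = y * g := by
  have h1 : ∀ w ∈ Q, y⁻¹ * (g * y * g⁻¹) * w = w * (y⁻¹ * (g * y * g⁻¹)) := by
    intro w hw
    obtain ⟨x, hx, rfl⟩ : ∃ x ∈ Q, w = g * x * g⁻¹ :=
      ⟨g⁻¹ * w * g⁻¹⁻¹, hQ.conj_mem w hw _, by group⟩
    have c := mem_center_iff.1 (h.comm hy hx)
    have e1 : g * y * g⁻¹ * (g * x * g⁻¹) * (g * y * g⁻¹)⁻¹ =
        y * x * y⁻¹ * x⁻¹ * (g * x * g⁻¹) := by
      calc g * y * g⁻¹ * (g * x * g⁻¹) * (g * y * g⁻¹)⁻¹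
          = g * (y * x * y⁻¹ * x⁻¹) * x * g⁻¹ := by group
        _ = y * x * y⁻¹ * x⁻¹ * g * x * g⁻¹ := by rw [c g]
        _ = _ := by group
    have e2 : y * (g * x * g⁻¹) * y⁻¹ = y * x * y⁻¹ * x⁻¹ * (g * x * g⁻¹) := by
      calc y * (g * x * g⁻¹) * y⁻¹ = y * (g * x * g⁻¹ * x⁻¹) * x * y⁻¹ := by group
        _ = g * x * g⁻¹ * x⁻¹ * y * x * y⁻¹ := by rw [hc x hx]
        _ = g * x * g⁻¹ * x⁻¹ * (y * x * y⁻¹ * x⁻¹) * x := by group
        _ = y * x * y⁻¹ * x⁻¹ * (g * x * g⁻¹ * x⁻¹) * x := by rw [c]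
        _ = _ := by group
    calc y⁻¹ * (g * y * g⁻¹) * (g * x * g⁻¹)
        = y⁻¹ * (g * y * g⁻¹ * (g * x * g⁻¹) * (g * y * g⁻¹)⁻¹) * (g * y * g⁻¹) := by group
      _ = y⁻¹ * (y * (g * x * g⁻¹) * y⁻¹) * (g * y * g⁻¹) := by rw [e1, e2]
      _ = _ := by group
  set e := y⁻¹ * (g * y * g⁻¹) with he
  have h2 : g * y * g⁻¹ = e * y := by rw [h1 y hy, he]; group
  have h3 : e * e = 1 := by
    have h4 : e * y * (e * y) = 1 := by
      rw [← h2]
      calc g * y * g⁻¹ * (g * y * g⁻¹) = g * (y * y) * g⁻¹ := by group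
        _ = 1 := by rw [y2]; group
    calc e * e = e * e * (y * y) := by rw [y2, mul_one]
      _ = e * (e * y) * y := by group
      _ = e * (y * e) * y := by rw [h1 y hy]
      _ = e * y * (e * y) := by group
      _ = 1 := h4
  have h5 : e = 1 := by
    refine fix_of_odd h2 ?_ hg (Two.of_sq h3)
    rcases h.cen e h1 h3 with h6 | h6
    · rw [h6]; simp
    · rw [h6]; exact mem_center_iff.1 h.cz g
  rw [h5, one_mul] at h2
  calc g * y = g * y * g⁻¹ * g := by group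
    _ = y * g := by rw [h2]

/-- `z ∈ T` -/
theorem Loc.z_mem [Finite C] (h : Loc z Q) (hT : IsStronglyClosed T (S : Subgroup C))
    (h0 : T ≠ ⊥) : z ∈ T := by
  haveI : Fact (Nat.Prime 2) := ⟨Nat.prime_two⟩
  haveI := S.isPGroup'.isNilpotent
  haveI : (T.subgroupOf (S : Subgroup C)).Normal :=
    ⟨fun x hx g => sc_normal hT g.2 hx⟩
  have h1 := H3.inf_center_ne_bot (T.subgroupOf (S : Subgroup C)) (fun e => h0 (by
    rwa [subgroupOf_eq_bot, disjoint_iff, inf_eq_left.2 hT.1] at e))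
  obtain ⟨⟨x, hx⟩, x1⟩ := ne_bot_iff_exists_ne_one.1 h1
  have x1' : x ≠ 1 := fun e => x1 (Subtype.ext e)
  obtain ⟨k, hk⟩ := S.isPGroup' x
  have h2 : ∃ k, x ^ 2 ^ k = 1 := ⟨k, hk⟩
  classical
  obtain ⟨m, hm⟩ : ∃ m, Nat.find h2 = m + 1 := Nat.exists_eq_succ_of_ne_zero fun e => x1' (by
    have := Nat.find_spec h2
    rwa [e, pow_zero, pow_one] at this)
  have h3 : x ^ 2 ^ (m + 1) = 1 := hm ▸ Nat.find_spec h2
  have h4 : x ^ 2 ^ m ≠ 1 := Nat.find_min h2 (by omega)
  have h5 := pow_mem hx (2 ^ m)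
  rcases h.cen ((x ^ 2 ^ m : (S : Subgroup C)) : C) (fun y hy =>
    congrArg Subtype.val (mem_center_iff.1 h5.2 ⟨y, h.le_sylow S hy⟩).symm)
    (by rw [← coe_mul, ← pow_add, ← mul_two, ← pow_succ, h3]; rfl) with e | e
  · exact absurd (Subtype.ext e) h4
  · rw [← e]
    exact h5.1

/-- `C` is generated by 2-elements, as far as elements of odd order are concerned -/
theorem Loc.gen [Finite C] (h : Loc z Q) (hN : NSC2 (C ⧸ Q)) (he : Even Q.index) {g : C}
    (hg : Odd (orderOf g)) : g ∈ closure {x : C | Two x} := by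
  obtain ⟨S⟩ : Nonempty (Sylow 2 C) := inferInstance
  let π := QuotientGroup.mk' Q
  have hπ : Function.Surjective π := QuotientGroup.mk'_surjective Q
  set W := closure {x : C | Two x}
  haveI : W.Normal := by
    refine ⟨fun x hx k => ?_⟩
    have : W ≤ W.comap (MulAut.conj k).toMonoidHom :=
      (closure_le _).2 fun y hy => subset_closure (Two.conj hy k)
    exact this hx
  haveI : (W.map π).Normal := Normal.map inferInstance π hπ
  have h1 := (hN (S.mapSurjective hπ) _ ⟨le_rfl, fun _ _ _ h => h⟩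
    ((S.mapSurjective hπ).ne_bot_of_dvd_card (even_iff_two_dvd.1 he))).2
  have h3 : normalClosure ((S.mapSurjective hπ : Subgroup (C ⧸ Q)) : Set (C ⧸ Q)) ≤ W.map π :=
    normalClosure_le_normal (map_mono fun x hx => subset_closure (Two.of_mem S.isPGroup' hx))
  obtain ⟨d, hd, e⟩ := h3 (h1 (mem_o2 trivial (odd_map π hg)))
  have hq : d⁻¹ * g ∈ W := subset_closure (Two.of_mem h.two (QuotientGroup.eq.1 e))
  simpa using W.mul_mem hd hq

end Loc

section Main

variable {K : Type u} [Group K] {z : K} {Q : Subgroup (centralizer ({z} : Set K))}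

/-- `z` as an element of its centraliser -/
def zc (z : K) : centralizer ({z} : Set K) := ⟨z, mem_centralizer_singleton_iff.2 rfl⟩

theorem zc_center : zc z ∈ center (centralizer ({z} : Set K)) :=
  mem_center_iff.2 fun g => Subtype.ext (mem_centralizer_singleton_iff.1 g.2)

theorem eq_of_zpowers (h : orderOf z = 2) {x : centralizer ({z} : Set K)}
    (hx : (x : K) ∈ zpowers z) : x = 1 ∨ x = zc z := by
  obtain ⟨n, hn⟩ := mem_zpowers_iff.1 hx
  have h2 : z ^ (2 : ℤ) = 1 := by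
    rw [show (2 : ℤ) = ((2 : ℕ) : ℤ) from rfl, zpow_natCast, ← h, pow_orderOf_eq_one]
  rcases Int.even_or_odd' n with ⟨m, rfl | rfl⟩
  · left
    refine Subtype.ext ?_
    rw [← hn, zpow_mul, h2, one_zpow]
    rfl
  · right
    refine Subtype.ext ?_
    rw [← hn, zpow_add, zpow_mul, h2, one_zpow, one_mul, zpow_one]
    rfl

theorem loc_of (h : LXD z Q) : Loc (zc z) Q where
  cz := zc_center
  z2 := Subtype.ext (by
    have := pow_orderOf_eq_one z
    rw [h.ord, sq] at this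
    exact this)
  two := h.two
  sq x hx := by
    rcases eq_of_zpowers h.ord (h.sq x hx) with e | e
    · rw [e]; exact one_mem _
    · rw [e]; exact zc_center
  cen x hx x2 := eq_of_zpowers h.ord
    (h.cen x (h.self (mem_centralizer_iff.2 fun y hy => (hx y hy).symm)) hx x2)
  self x hx := h.self (mem_centralizer_iff.2 fun y hy => (hx y hy).symm)
  odd := h.odd

/-- the normaliser of a subgroup between `Q` and `C` lies in `C` -/
theorem norm_le [Q.Normal] (h : LXD z Q) {P : Subgroup K} (hP : P ≤ centralizer ({z} : Set K))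
    (hQ : ∀ x ∈ Q, (x : K) ∈ P) {n : K} (hn : n ∈ normalizer (P : Set K)) :
    n ∈ centralizer ({z} : Set K) := by
  have l := loc_of h
  have hz : z ∈ P := hQ _ (l.self _ fun y _ => (mem_center_iff.1 l.cz y).symm)
  have h1 : n * z * n⁻¹ ∈ P := (mem_normalizer_iff.1 hn z).1 hz
  have z2 : z * z = 1 := congrArg Subtype.val l.z2
  rcases l.cen ⟨n * z * n⁻¹, hP h1⟩ (fun y hy => Subtype.ext (by
    have h2 : n⁻¹ * y * n ∈ P := (mem_normalizer_iff''.1 hn y).1 (hQ y hy)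
    have h3 := mem_centralizer_singleton_iff.1 (hP h2)
    show n * z * n⁻¹ * y = y * (n * z * n⁻¹)
    calc n * z * n⁻¹ * y = n * (z * (n⁻¹ * y * n)) * n⁻¹ := by group
      _ = _ := by rw [← h3]; group)) (Subtype.ext (by
    show n * z * n⁻¹ * (n * z * n⁻¹) = 1
    calc n * z * n⁻¹ * (n * z * n⁻¹) = n * (z * z) * n⁻¹ := by group
      _ = 1 := by rw [z2]; group)) with e | e
  · have e' : n * z * n⁻¹ = 1 := congrArg Subtype.val e
    have : z = 1 := by simpa using e'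
    have h4 := h.ord
    rw [this, orderOf_one] at h4
    omega
  · have e' : n * z * n⁻¹ = z := congrArg Subtype.val e
    rw [mem_centralizer_singleton_iff]
    calc n * z = n * z * n⁻¹ * n := by group
      _ = z * n := by rw [e']

theorem exists_sylow [Finite K] [Q.Normal] (h : LXD z Q) :
    ∃ S : Sylow 2 K, (S : Subgroup K) ≤ centralizer ({z} : Set K) := by
  obtain ⟨S₀⟩ : Nonempty (Sylow 2 (centralizer ({z} : Set K))) := inferInstance
  have hle : (S₀ : Subgroup _).map (centralizer ({z} : Set K)).subtype ≤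
      centralizer ({z} : Set K) := map_subtype_le _
  obtain ⟨S, hS⟩ := H10.exists_sylow_eq_of_normalizer
    (S₀.isPGroup'.map (centralizer ({z} : Set K)).subtype) fun R hR h1 h2 => by
      have h3 : R ≤ centralizer ({z} : Set K) := fun n hn =>
        norm_le h hle (fun x hx => mem_map_of_mem _ ((loc_of h).le_sylow S₀ hx)) (h2 hn)
      have h4 := S₀.is_maximal' (hR.comap_subtype (K := centralizer ({z} : Set K)))
        (fun x hx => h1 (mem_map_of_mem _ hx))
      rw [← h4]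
      exact (map_comap_eq_self (by rwa [range_subtype])).symm
  exact ⟨S, hS ▸ hle⟩

theorem lx (quot : QuotStmt.{u}) (lxa : LxaStmt.{u}) (lxb : LxbStmt.{u}) : LxStmt.{u} := by
  intro K _ _ hK z Q _ h he hN
  have l := loc_of h
  have hcore : pCore 2 (centralizer ({z} : Set K)) ≤ Q := l.core hN _ (H3.pCore_isPGroup 2 _)
  obtain ⟨S, hS⟩ := exists_sylow h
  have hQS : ∀ x ∈ Q, (x : K) ∈ (S : Subgroup K) := fun x hx => l.le_sylow (S.subtype hS) hx
  have hzQ : zc z ∈ Q := l.self _ fun y _ => (mem_center_iff.1 l.cz y).symm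
  refine ⟨nsc_of_one S fun T hT h0 => ?_, ?_⟩
  · have hTC : T ≤ centralizer ({z} : Set K) := hT.1.trans hS
    set T' := T.subgroupOf (centralizer ({z} : Set K)) with hT'
    have hT1 : IsStronglyClosed T' (S.subtype hS : Subgroup (centralizer ({z} : Set K))) :=
      ⟨fun x hx => hT.1 hx, fun x hx g hg => hT.2 x hx g hg⟩
    have hTQ : ¬ T' ≤ Q := fun e => lxb K hK z Q h hcore S hS T hT h0 fun x hx =>
      ⟨⟨x, hTC hx⟩, e hx, rfl⟩
    obtain ⟨b1, b2⟩ := l.big hN hT1 hTQ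
    have hzT : z ∈ T := l.z_mem hT1 fun e => hTQ (e ▸ bot_le)
    have z2 : z * z = 1 := congrArg Subtype.val l.z2
    have hNC : normalizer (T : Set K) ≤ centralizer ({z} : Set K) := by
      intro n hn
      have h1 : n * z * n⁻¹ ∈ T := (mem_normalizer_iff.1 hn z).1 hzT
      let y : centralizer ({z} : Set K) := ⟨n * z * n⁻¹, hTC h1⟩
      have hc : ∀ t ∈ T', t * y = y * t := fun t ht => Subtype.ext (by
        have h2 : n⁻¹ * t * n ∈ T := (mem_normalizer_iff''.1 hn t).1 ht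
        have h3 := mem_centralizer_singleton_iff.1 (hTC h2)
        show (t : K) * (n * z * n⁻¹) = n * z * n⁻¹ * t
        calc (t : K) * (n * z * n⁻¹) = n * (n⁻¹ * t * n * z) * n⁻¹ := by group
          _ = _ := by rw [h3]; group)
      have hy : y ∈ Q := l.zt hN hT1 h1 hc
      have y2 : y * y = 1 := Subtype.ext (by
        show n * z * n⁻¹ * (n * z * n⁻¹) = 1
        calc n * z * n⁻¹ * (n * z * n⁻¹) = n * (z * z) * n⁻¹ := by group
          _ = 1 := by rw [z2]; group)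
      have e' : n * z * n⁻¹ = z := by
        by_contra hne
        obtain ⟨g, hg, hgy⟩ := lxa K z Q h hcore y hy (isConj_iff.2 ⟨n, rfl⟩) hne
        exact hgy (l.fix hy y2 hg fun x hx => hc _ (b1 g hg x hx))
      rw [mem_centralizer_singleton_iff]
      calc n * z = n * z * n⁻¹ * n := by group
        _ = z * n := by rw [e']
    have hO : O2 (⊤ : Subgroup K) = ⊤ := by
      haveI := hK.1
      obtain ⟨g, g1, hg⟩ := h.odd
      refine (IsSimpleGroup.eq_bot_or_eq_top_of_normal _ o2_normal).resolve_left fun e => g1 ?_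
      have : (g : K) ∈ O2 (⊤ : Subgroup K) := mem_o2 trivial (by rwa [orderOf_coe])
      rw [e, mem_bot] at this
      exact Subtype.ext this
    have hq := quot K S T hT
    rw [hO, inf_top_eq] at hq
    refine sylow_le' S T (normalizer (T : Set K))
      (fun s hs => mem_normalizer_fintype fun x hx => sc_normal hT hs hx) le_normalizer le_rfl hq
      (fun a => ∃ t ∈ T, ∃ x ∈ Q, a = t * (x : K)) ?_ fun a ha b hb => ?_
    · rintro _ ⟨t, ht, x, hx, rfl⟩ g hg ho
      have h1 : g * x * g⁻¹ * (x : K)⁻¹ ∈ T :=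
        b1 ⟨g, hNC hg⟩ (by rw [← orderOf_coe]; exact ho) x hx
      have : g * (t * x) * g⁻¹ * (t * x)⁻¹ = g * t * g⁻¹ * (g * x * g⁻¹ * (x : K)⁻¹) * t⁻¹ := by
        group
      rw [this]
      exact T.mul_mem (T.mul_mem ((mem_normalizer_iff.1 hg t).1 ht) h1) (T.inv_mem ht)
    · have key : ∀ c : centralizer ({z} : Set K), c ∈ T' ⊔ Q →
          ∃ t ∈ T, ∃ x ∈ Q, (c : K) = t * (x : K) := by
        intro c hc
        have hc' : c ∈ ((T' ⊔ Q : Subgroup _) : Set (centralizer ({z} : Set K))) := hc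
        rw [mul_normal] at hc'
        obtain ⟨t, ht, x, hx, rfl⟩ := hc'
        exact ⟨t, ht, x, hx, rfl⟩
      exact (b2 ⟨a, hS ha⟩ ha ⟨b, hS hb⟩ hb).imp (key _) (Or.imp (key _) (key _))
  · refine ofp_of_cent S (Q.map (centralizer ({z} : Set K)).subtype)
      (by rintro _ ⟨x, hx, rfl⟩; exact hQS x hx) (fun x hx _ => ?_) fun g hg ho => ?_
    · have hxC : x ∈ centralizer ({z} : Set K) := by
        have := hx z ⟨zc z, hzQ, rfl⟩
        rw [mem_centralizer_singleton_iff]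
        calc x * z = x * z * x⁻¹ * x := by group
          _ = z * x := by rw [this]
      refine ⟨⟨x, hxC⟩, l.self _ fun y hy => Subtype.ext ?_, rfl⟩
      have := hx y ⟨y, hy, rfl⟩
      show x * y = y * x
      calc x * y = x * y * x⁻¹ * x := by group
        _ = y * x := by rw [this]
    · have hgC : g ∈ centralizer ({z} : Set K) := norm_le h hS hQS (mem_normalizer_fintype hg)
      have h1 := l.gen hN he (g := ⟨g, hgC⟩) (by rw [← orderOf_coe]; exact ho)
      refine mem_comap.1 (((closure_le (comap (centralizer ({z} : Set K)).subtype _)).2 ?_) h1)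
      intro x hx
      refine subset_closure ⟨?_, Two.map hx (centralizer ({z} : Set K)).subtype⟩
      rintro _ ⟨y, hy, rfl⟩
      exact ⟨x * y * x⁻¹, Normal.conj_mem inferInstance y hy x, rfl⟩

end Main

end Cfsg.Agent.H82.FkLx
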