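import Cfsg.Agent.H78.G40B
import Cfsg.Agent.H31.G40Id

/-! Project L40G: identification of the amalgam in the symplectic case. -/

set_option autoImplicit false

namespace Cfsg.Agent.H82.G40Id2

open Subgroup Matrix Cfsg.Agent.H46.L40 Cfsg.Agent.H78.G40
open Cfsg.Agent.H31.G40Id (half inj_of_card)

universe u v

def mx12 : Sp6 := ⟨fromBlocks !![1, 1, 0; 0, 1, 0; 0, 0, 1] !![0, 0, 0; 0, 0, 0; 0, 0, 0]
  !![0, 0, 0; 0, 0, 0; 0, 0, 0] !![1, 0, 0; 2, 1, 0; 0, 0, 1], by decide +kernel⟩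
def mx21 : Sp6 := ⟨fromBlocks !![1, 0, 0; 1, 1, 0; 0, 0, 1] !![0, 0, 0; 0, 0, 0; 0, 0, 0]
  !![0, 0, 0; 0, 0, 0; 0, 0, 0] !![1, 2, 0; 0, 1, 0; 0, 0, 1], by decide +kernel⟩
def mx23 : Sp6 := ⟨fromBlocks !![1, 0, 0; 0, 1, 1; 0, 0, 1] !![0, 0, 0; 0, 0, 0; 0, 0, 0]
  !![0, 0, 0; 0, 0, 0; 0, 0, 0] !![1, 0, 0; 0, 1, 0; 0, 2, 1], by decide +kernel⟩
def mx32 : Sp6 := ⟨fromBlocks !![1, 0, 0; 0, 1, 0; 0, 1, 1] !![0, 0, 0; 0, 0, 0; 0, 0, 0]
  !![0, 0, 0; 0, 0, 0; 0, 0, 0] !![1, 0, 0; 0, 1, 2; 0, 0, 1], by decide +kernel⟩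
def mn23 : Sp6 := ⟨fromBlocks !![1, 0, 0; 0, 0, 1; 0, 2, 0] !![0, 0, 0; 0, 0, 0; 0, 0, 0]
  !![0, 0, 0; 0, 0, 0; 0, 0, 0] !![1, 0, 0; 0, 0, 1; 0, 2, 0], by decide +kernel⟩
def mz0 : Sp6 := ⟨fromBlocks !![2, 0, 0; 0, 2, 0; 0, 0, 1] !![0, 0, 0; 0, 0, 0; 0, 0, 0]
  !![0, 0, 0; 0, 0, 0; 0, 0, 0] !![2, 0, 0; 0, 2, 0; 0, 0, 1], by decide +kernel⟩
def ma0 : Sp6 := ⟨fromBlocks !![1, 0, 0; 0, 2, 0; 0, 0, 2] !![0, 0, 0; 0, 0, 0; 0, 0, 0]
  !![0, 0, 0; 0, 0, 0; 0, 0, 0] !![1, 0, 0; 0, 2, 0; 0, 0, 2], by decide +kernel⟩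
def mw0 : Sp6 := ⟨fromBlocks !![0, 1, 0; 2, 0, 0; 0, 0, 1] !![0, 0, 0; 0, 0, 0; 0, 0, 0]
  !![0, 0, 0; 0, 0, 0; 0, 0, 0] !![0, 1, 0; 2, 0, 0; 0, 0, 1], by decide +kernel⟩
def maz : Sp6 := ⟨fromBlocks !![2, 0, 0; 0, 1, 0; 0, 0, 2] !![0, 0, 0; 0, 0, 0; 0, 0, 0]
  !![0, 0, 0; 0, 0, 0; 0, 0, 0] !![2, 0, 0; 0, 1, 0; 0, 0, 2], by decide +kernel⟩
def my12 : Sp6 := ⟨fromBlocks !![1, 2, 0; 0, 1, 0; 0, 0, 1] !![0, 0, 0; 0, 0, 0; 0, 0, 0]
  !![0, 0, 0; 0, 0, 0; 0, 0, 0] !![1, 0, 0; 1, 1, 0; 0, 0, 1], by decide +kernel⟩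
def my21 : Sp6 := ⟨fromBlocks !![1, 0, 0; 2, 1, 0; 0, 0, 1] !![0, 0, 0; 0, 0, 0; 0, 0, 0]
  !![0, 0, 0; 0, 0, 0; 0, 0, 0] !![1, 1, 0; 0, 1, 0; 0, 0, 1], by decide +kernel⟩
def mns : Sp6 := ⟨fromBlocks !![0, 0, 0; 0, 0, 1; 0, 0, 0] !![0, 1, 0; 0, 0, 0; 2, 0, 0]
  !![0, 2, 0; 0, 0, 0; 1, 0, 0] !![0, 0, 0; 0, 0, 1; 0, 0, 0], by decide +kernel⟩
def mv : Sp6 := ⟨fromBlocks !![1, 0, 0; 0, 1, 0; 0, 0, 1] !![0, 0, 0; 0, 0, 0; 0, 0, 0]
  !![0, 2, 0; 2, 0, 0; 0, 0, 0] !![1, 0, 0; 0, 1, 0; 0, 0, 1], by decide +kernel⟩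
def mu : Sp6 := ⟨fromBlocks !![1, 0, 0; 0, 1, 0; 0, 0, 1] !![0, 2, 0; 2, 0, 0; 0, 0, 0]
  !![0, 0, 0; 0, 0, 0; 0, 0, 0] !![1, 0, 0; 0, 1, 0; 0, 0, 1], by decide +kernel⟩
def mc : Sp6 := ⟨fromBlocks !![1, 0, 0; 0, 1, 0; 0, 0, 1] !![0, 0, 0; 0, 0, 0; 0, 0, 0]
  !![0, 0, 2; 0, 0, 0; 2, 0, 0] !![1, 0, 0; 0, 1, 0; 0, 0, 1], by decide +kernel⟩

theorem e12 : E2 x12 = mx12 := by decide +kernel
theorem e21 : E2 x21 = mx21 := by decide +kernel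
theorem e23 : E2 x23 = mx23 := by decide +kernel
theorem e32 : E2 x32 = mx32 := by decide +kernel
theorem en : E2 n23 = mn23 := by decide +kernel
theorem ez : E2 z0 = mz0 := by decide +kernel
theorem ea : E2 a0 = ma0 := by decide +kernel
theorem ew : E2 w0 = mw0 := by decide +kernel
theorem eaz : E2 (a0 * z0) = maz := by
  rw [map_mul, ea, ez]; decide +kernel
theorem ey12 : E2 (a0 * x12 * a0⁻¹) = my12 := by
  rw [map_mul, map_mul, map_inv, ea, e12, mul_inv_eq_iff_eq_mul]; decide +kernel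
theorem ey21 : E2 (a0 * x21 * a0⁻¹) = my21 := by
  rw [map_mul, map_mul, map_inv, ea, e21, mul_inv_eq_iff_eq_mul]; decide +kernel
theorem ens : mn23 * S6 = mns := by decide +kernel
theorem ev : uu E2 S6 = mv := by
  rw [uu, en, ens, e23, mul_inv_eq_iff_eq_mul]; decide +kernel
theorem eu : uv E2 S6 = mu := by
  rw [uv, en, ens, e32, mul_inv_eq_iff_eq_mul]; decide +kernel
theorem ec : mv * mx23 * mv⁻¹ * mx23⁻¹ = mc := by
  rw [mul_inv_eq_iff_eq_mul, mul_inv_eq_iff_eq_mul]; decide +kernel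

theorem inv_of {Y : Type*} [Group Y] {a v : Y} (h : v * (a * v) = a) : a * v * a⁻¹ = v⁻¹ := by
  rw [mul_inv_eq_iff_eq_mul, eq_inv_mul_iff_mul_eq, h]

theorem T2_E2 (m : S3) : T2 (E2 m) = E2 m := Subtype.ext (by
  change D6 * fromBlocks m.1 0 0 (tr m).1 * D6 = fromBlocks m.1 0 0 (tr m).1
  simp [D6, fromBlocks_multiply])

section Lift
variable {U : Type v} [Group U] (c : Sp6 →* U) {δ : U} (hδ : δ * δ = 1)
  (hT : ∀ g, δ * c g * δ = c (T2 g))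

theorem uu_c : uu (c.comp E2) (c S6) = c mv := by
  rw [← ev]; simp only [uu, map_mul, map_inv, MonoidHom.comp_apply]

theorem uv_c : uv (c.comp E2) (c S6) = c mu := by
  rw [← eu]; simp only [uv, map_mul, map_inv, MonoidHom.comp_apply]

theorem cj {x y z : Sp6} (h : x * y * x⁻¹ = z) : c x * c y * (c x)⁻¹ = c z := by
  rw [← h, map_mul, map_mul, map_inv]

theorem cm {x y : Sp6} (h : x * y = y * x) : c x * c y = c y * c x := by
  rw [← map_mul, h, map_mul]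

theorem good : Good2 (c.comp E2) (c S6) := by
  unfold Good2
  rw [uu_c, uv_c, ← map_inv c mv, ← map_inv c mu, MonoidHom.comp_apply, ew]
  exact ⟨cj c (inv_of (by decide +kernel)), cj c (inv_of (by decide +kernel))⟩

include hδ hT

theorem tL (m : S3) : δ * (c.comp E2) m = (c.comp E2) m * δ := by
  have h := hT (E2 m)
  rw [T2_E2] at h
  rw [MonoidHom.comp_apply]
  conv_rhs => rw [← h, mul_assoc, hδ, mul_one]

theorem rl : Rl (c.comp E2) (c S6) δ a0 where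
  tt := hδ
  tL := tL c hδ hT
  ss := by rw [← map_mul, MonoidHom.comp_apply, ez]; exact congrArg c (by decide +kernel)
  st := by
    have h : T2 S6 = mz0 * S6 := by decide +kernel
    rw [mul_inv_eq_iff_eq_mul, MonoidHom.comp_apply, ez, mul_assoc, ← map_mul, ← h, ← hT,
      ← mul_assoc, ← mul_assoc, hδ, one_mul]
  sa := by
    rw [MonoidHom.comp_apply, MonoidHom.comp_apply, ea, eaz]
    exact cj c (mul_inv_eq_iff_eq_mul.2 (by decide +kernel))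
  s12 := by
    rw [MonoidHom.comp_apply, MonoidHom.comp_apply, e12, ey12]
    exact cj c (mul_inv_eq_iff_eq_mul.2 (by decide +kernel))
  s21 := by
    rw [MonoidHom.comp_apply, MonoidHom.comp_apply, e21, ey21]
    exact cj c (mul_inv_eq_iff_eq_mul.2 (by decide +kernel))
  br := by
    rw [MonoidHom.comp_apply, en]
    simp only [← map_mul]
    exact congrArg c (by decide +kernel)

theorem ru : Ru (c.comp E2) (uu (c.comp E2) (c S6)) δ := by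
  have h : c mv * c mx23 * (c mv)⁻¹ * (c mx23)⁻¹ = c mc := by
    rw [← ec]; simp only [map_mul, map_inv]
  rw [uu_c]
  refine ⟨hδ, tL c hδ hT, ?_, ?_, ?_, ?_, ?_, ?_, ?_, ?_⟩
  · rw [← map_pow, pow_three, show mv * (mv * mv) = 1 by decide +kernel, map_one]
  · rw [hT, ← map_inv]
    exact congrArg c (eq_inv_of_mul_eq_one_left (by decide +kernel))
  · rw [MonoidHom.comp_apply, e32]
    exact cm c (by decide +kernel)
  · rw [MonoidHom.comp_apply, e23, h]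
    exact cm c (by decide +kernel)
  · rw [MonoidHom.comp_apply, e23, h]
    exact cm c (by decide +kernel)
  · rw [MonoidHom.comp_apply, ea, ← map_inv c mv]
    exact cj c (inv_of (by decide +kernel))
  · rw [MonoidHom.comp_apply, ez]
    exact cm c (by decide +kernel)
  · rw [MonoidHom.comp_apply, ew, ← map_inv c mv]
    exact cj c (inv_of (by decide +kernel))

end Lift

theorem exists_lift : ∃ (U : Type) (_ : Group U) (_ : Finite U) (c : Sp6 →* U) (δ : U),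
    Function.Injective c ∧ δ * δ = 1 ∧ (∀ g, δ * c g * δ = c (T2 g)) ∧ δ ∉ c.range := by
  refine ⟨(Matrix (Fin 3 ⊕ Fin 3) (Fin 3 ⊕ Fin 3) (ZMod 3))ˣ, inferInstance, inferInstance,
    (Submonoid.subtype Sp6).toHomUnits, ⟨D6, D6, D6_sq, D6_sq⟩,
    fun x y h => by exact Subtype.ext (congrArg Units.val h), Units.ext D6_sq, fun g => Units.ext rfl, ?_⟩
  rintro ⟨g, hg⟩
  have h1 : g.1 = D6 := congrArg Units.val hg
  exact absurd (h1 ▸ g.2 : D6 ∈ Sp6) (by decide +kernel)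

theorem id2 : Id2S.{u} := by
  intro kit odd ma mo ca cb cc G _ _ d hd
  obtain ⟨M, gen⟩ := mo kit ma
  obtain ⟨U, _, _, c, δ, ci, hδ, hT, hr⟩ := exists_lift
  have := M.simple
  have hz : d.φ z0 ≠ 1 := fun h => absurd ((map_eq_one_iff _ d.inj).1 h) (by decide)
  have r : Rl d.φ (d.φ2 w0) d.t a0 := hd ▸ d.rl
  obtain ⟨-, -, -, -, -, -, -, -, o1, o2⟩ := odd G d
  obtain ⟨g2, r2⟩ := o1 (by_contra fun h => hz (ca G _ _ _ r (o2 h)))
  have R := rl c hδ hT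
  have G2 := good c
  have R2 := ru c hδ hT
  let φ : S3 →* G × U := d.φ.prod (c.comp E2)
  have hD := cb (G × U) φ (d.φ2 w0, c S6) (d.t, δ)
    ⟨Prod.ext r.tt R.tt, fun m => Prod.ext (r.tL m) (R.tL m), Prod.ext r.ss R.ss,
      Prod.ext r.st R.st, Prod.ext r.sa R.sa, Prod.ext r.s12 R.s12, Prod.ext r.s21 R.s21,
      Prod.ext r.br R.br⟩ ⟨Prod.ext g2.1 G2.1, Prod.ext g2.2 G2.2⟩
  have hD2 := cc (G × U) φ (uu φ (d.φ2 w0, c S6)) (d.t, δ)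
    ⟨Prod.ext r2.tt R2.tt, fun m => Prod.ext (r2.tL m) (R2.tL m), Prod.ext r2.v3 R2.v3,
      Prod.ext r2.tv R2.tv, Prod.ext r2.c32 R2.c32, Prod.ext r2.c1 R2.c1, Prod.ext r2.c2 R2.c2,
      Prod.ext r2.av R2.av, Prod.ext r2.zv R2.zv, Prod.ext r2.wv R2.wv⟩
  replace hD := hD.trans (Nat.mul_le_mul_left _ hD2)
  set D := Gn φ {(d.φ2 w0, c S6), (d.t, δ)}
  have m1 : ∀ m, (d.φ m, c (E2 m)) ∈ D := fun m => subset_closure (.inl ⟨m, rfl⟩)
  have m2 : (d.φ2 w0, c S6) ∈ D := subset_closure (.inr (.inl rfl))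
  have m3 : (d.t, δ) ∈ D := subset_closure (.inr (.inr rfl))
  let p : D →* U := (MonoidHom.snd _ _).comp D.subtype
  have ex : ∀ x, c x ∈ p.range := fun x => (show ⊤ ≤ p.range.comap c from gen ▸
    (closure_le _).2 (by
      rintro _ (⟨m, rfl⟩ | rfl)
      exacts [⟨⟨_, m1 m⟩, rfl⟩, ⟨⟨_, m2⟩, rfl⟩])) (mem_top x)
  have hp : Function.Injective p := by
    have lt : c.range < p.range := lt_of_le_not_ge (by rintro _ ⟨x, rfl⟩; exact ex x) fun h =>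
      hr (h ⟨⟨_, m3⟩, rfl⟩)
    have := half lt
    rw [← Nat.card_congr (MonoidHom.ofInjective ci).toEquiv, ma.2.2.2] at this
    exact inj_of_card p (by omega)
  have un : ∀ {g g' α α'}, (g, α) ∈ D → (g', α') ∈ D → α = α' → g = g' := fun h h' k =>
    congrArg (fun x => x.1.1) (hp (a₁ := ⟨_, h⟩) (a₂ := ⟨_, h'⟩) k)
  have ex' : ∀ x, ∃ g, (g, c x) ∈ D := fun x => by
    obtain ⟨y, hy⟩ := ex x
    exact ⟨y.1.1, hy ▸ y.2⟩
  choose f hf using ex'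
  let ψ0 : Sp6 →* G := MonoidHom.mk' f fun x y => un (hf _) (mul_mem (hf x) (hf y)) (map_mul c x y)
  have he : ∀ m, ψ0 (E2 m) = d.φ m := fun m => un (hf _) (m1 m) rfl
  have hs : ψ0 S6 = d.φ2 w0 := un (hf _) m2 rfl
  have ht : ∀ x, d.t * ψ0 x * d.t = ψ0 (T2 x) := fun x =>
    un (mul_mem (mul_mem m3 (hf x)) m3) (hf _) (hT x)
  have hm : ψ0 m6 = 1 := by
    have c1 : ∀ x, ψ0 x * ψ0 m6 = ψ0 m6 * ψ0 x := fun x => by
      rw [← map_mul, mem_center_iff.1 ((cen2 m6).2 (Or.inr rfl)) x, map_mul]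
    have c2 : ψ0 m6 * ψ0 m6 = 1 := by
      rw [← map_mul, show m6 * m6 = 1 by decide +kernel, map_one]
    have c3 : ψ0 m6 * d.t = d.t * ψ0 m6 := by
      have h := ht m6
      rw [show T2 m6 = m6 by decide +kernel] at h
      conv_lhs => rw [← h, mul_assoc, r.tt, mul_one]
    have c4 : ∀ y ∈ d.O, y * y = 1 → y = 1 := fun y hy h => by
      have h1 := (orderOf_dvd_of_pow_eq_one ((pow_two y).trans h))
      have h2 := d.O.orderOf_dvd_natCard hy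
      exact orderOf_eq_one_iff.1 (Nat.eq_one_of_dvd_coprimes (Nat.coprime_two_left.2 d.cx.odd) h1 h2)
    rcases d.cx.tr _ c3 (by rintro _ ⟨m, rfl⟩; rw [← he]; exact c1 _) with h | h
    · exact c4 _ h c2
    · have h1 := c4 _ h (by
        rw [mul_assoc, ← mul_assoc d.t, ← c3, mul_assoc, r.tt, mul_one, c2])
      have h2 : ψ0 m6 = d.t := by
        rw [← mul_one (ψ0 m6), ← r.tt, ← mul_assoc, h1, one_mul]
      have h3 := c1 S6
      have h4 := r.st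
      rw [hs, h2] at h3
      rw [h3, mul_inv_cancel_right] at h4
      exact absurd (left_eq_mul.1 h4) hz
  let ψ : X2 →* G := QuotientGroup.lift (center Sp6) ψ0 fun x hx => by
    rcases (cen2 x).1 hx with rfl | rfl
    exacts [map_one ψ0, hm]
  have he' : ∀ m, ψ (e2 m) = d.φ m := he
  have hs' : ψ σ2 = d.φ2 w0 := hs
  have ext : ∀ (f g : X2 →* G), (∀ m, f (e2 m) = g (e2 m)) → f σ2 = g σ2 →
      ∀ x, f x = g x := fun f g h1 h2 => DFunLike.congr_fun (MonoidHom.eq_of_eqOn_dense M.gen (by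
        rintro _ (⟨m, rfl⟩ | rfl)
        exacts [h1 m, h2]))
  refine ⟨ψ, ?_, he', hs', ?_, fun x => ?_,
    d.gam.act.imp_right fun h => ext ((MulAut.conj d.γ).toMonoidHom.comp ψ) (ψ.comp θ2.toMonoidHom)
      (fun m => ?_) ?_⟩
  · rw [← ψ.ker_eq_bot_iff]
    refine (ψ.normal_ker.eq_bot_or_eq_top).resolve_right fun h => hz ?_
    rw [← he']
    exact h.ge (mem_top _)
  · rw [MonoidHom.range_eq_map, ← M.gen, MonoidHom.map_closure, Set.image_union, ← Set.range_comp,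
      Set.image_singleton, hs', show ψ ∘ e2 = d.φ from funext he']
  · obtain ⟨x, rfl⟩ := QuotientGroup.mk_surjective x
    exact ht x
  · change d.γ * ψ (e2 m) * d.γ⁻¹ = ψ (θ2 (e2 m))
    rw [M.θe, he', he', h]
  · change d.γ * ψ σ2 * d.γ⁻¹ = ψ (θ2 σ2)
    rw [M.θs, hs', d.gs, mul_inv_cancel_right]

end Cfsg.Agent.H82.G40Id2
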