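import Cfsg.Agent.H88.FkO35
import Cfsg.Agent.H30.OrthMaxTS

/-! The stabiliser of a maximal system of planes has odd index in the orthogonal group. -/

set_option autoImplicit false
set_option linter.unusedSectionVars false

namespace Cfsg.Agent.H82.FkO1

open Cfsg Subgroup QuadraticMap Module Cfsg.Agent.H30 Cfsg.Agent.H37.FK Cfsg.Agent.H88.FkO

section num

/-- the `2`-adic valuation -/
abbrev vl (n : ℕ) : ℕ := padicValNat 2 n

/-- the product in the order formulas -/
def PP (q m : ℕ) : ℕ := ∏ i ∈ Finset.range m, (q ^ (2 * (i + 1)) - 1)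

theorem pow_sub_ne {q : ℕ} (hq : 1 < q) {n : ℕ} (hn : n ≠ 0) : q ^ n - 1 ≠ 0 := by
  have := Nat.one_lt_pow hn hq
  omega

theorem PP_ne {q : ℕ} (hq : 1 < q) (m : ℕ) : PP q m ≠ 0 :=
  Finset.prod_ne_zero_iff.2 fun i _ => pow_sub_ne hq (by omega)

theorem PP_succ (q m : ℕ) : PP q (m + 1) = PP q m * (q ^ (2 * (m + 1)) - 1) :=
  Finset.prod_range_succ _ _

theorem vl_two : vl 2 = 1 := padicValNat_self

theorem vl_odd {n : ℕ} (h : Odd n) : vl n = 0 :=
  padicValNat.eq_zero_of_not_dvd (by rw [← even_iff_two_dvd]; exact Nat.not_even_iff_odd.2 h)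

theorem vl_mul {a b : ℕ} (ha : a ≠ 0) (hb : b ≠ 0) : vl (a * b) = vl a + vl b :=
  padicValNat.mul ha hb

theorem vl_le {a b : ℕ} (hb : b ≠ 0) (h : a ∣ b) : vl a ≤ vl b := by
  obtain ⟨c, rfl⟩ := h
  rw [vl_mul (left_ne_zero_of_mul hb) (right_ne_zero_of_mul hb)]
  omega

theorem vl_pos {a : ℕ} (ha : a ≠ 0) (h : Even a) : 1 ≤ vl a :=
  vl_two ▸ vl_le ha (even_iff_two_dvd.1 h)

theorem vl_eq_one {n : ℕ} (h : n % 4 = 2) : vl n = 1 := by
  have : n = 2 * (n / 2) := by omega
  rw [this, vl_mul (by omega) (by omega), vl_two, vl_odd (Nat.odd_iff.2 (by omega))]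

theorem vl_PP {q : ℕ} (hq : 1 < q) (ho : Odd q) (m : ℕ) :
    vl (PP q m) = m * (vl (q + 1) + vl (q - 1)) + vl m.factorial := by
  induction m with
  | zero => simp [PP]
  | succ m ih =>
    have h := padicValNat.pow_two_sub_one (x := q) (n := 2 * (m + 1)) hq
      (by rw [← even_iff_two_dvd]; exact Nat.not_even_iff_odd.2 ho) (by omega) (even_two_mul _)
    have h2 : vl (2 * (m + 1)) = 1 + vl (m + 1) := by rw [vl_mul (by omega) (by omega), vl_two]
    rw [PP_succ, vl_mul (PP_ne hq m) (pow_sub_ne hq (by omega)), ih, Nat.factorial_succ,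
      vl_mul (by omega) (Nat.factorial_ne_zero m)]
    unfold vl at *
    rw [add_mul]
    omega

theorem vl_prod {ι : Type*} (s : Finset ι) (c : ι → ℕ) (a : ℕ) (h0 : ∀ i, c i ≠ 0)
    (h : ∀ i, a ≤ vl (c i)) : s.card * a ≤ vl (∏ i ∈ s, c i) := by
  classical
  induction s using Finset.induction_on with
  | empty => simp
  | insert i s hi ih =>
    rw [Finset.prod_insert hi, Finset.card_insert_of_notMem hi,
      vl_mul (h0 i) (Finset.prod_ne_zero_iff.2 fun j _ => h0 j), add_mul]
    have := h i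
    omega

end num

section grp

variable {G : Type*} [Group G] [Finite G]

theorem syl_le (D : Subgroup G) (h : vl (Nat.card G) ≤ vl (Nat.card D)) :
    ∃ S : Sylow 2 G, (S : Subgroup G) ≤ D := by
  have hd : 2 ^ vl (Nat.card G) ∣ Nat.card D :=
    (pow_dvd_pow 2 h).trans pow_padicValNat_dvd
  obtain ⟨K, hK⟩ := Sylow.exists_subgroup_card_pow_prime 2 hd
  refine ⟨Sylow.ofCard (K.map D.subtype) ?_, ?_⟩
  · rw [card_map_of_injective D.subtype_injective, hK, Nat.factorization_def _ Nat.prime_two]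
  · rw [Sylow.coe_ofCard]; exact map_subtype_le K

theorem odd_index (H : Subgroup G) (τ : G) (h4 : τ ^ 4 = 1) (h1 : τ ∈ H)
    (h : ∀ g, g⁻¹ * τ * g ∈ H → g ∈ H) : Odd H.index := by
  classical
  letI := Fintype.ofFinite (G ⧸ H)
  have hf : (MulAction.toEndHom (M := G) (α := G ⧸ H) τ) ^ 2 ^ 2 = 1 := by
    rw [← map_pow, show 2 ^ 2 = 4 by norm_num, h4, map_one]
  have := Equiv.Perm.card_fixedPoints_modEq hf
  have h1' : Nat.card
      (Function.fixedPoints (MulAction.toEndHom (M := G) (α := G ⧸ H) τ)) = 1 := by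
    rw [Nat.card_eq_one_iff_exists]
    refine ⟨⟨((1 : G) : G ⧸ H), ?_⟩, ?_⟩
    · change τ • ((1 : G) : G ⧸ H) = ((1 : G) : G ⧸ H)
      rw [MulAction.Quotient.smul_mk, QuotientGroup.eq]
      simpa using h1
    · rintro ⟨x, hx⟩
      obtain ⟨g, rfl⟩ := QuotientGroup.mk_surjective x
      change τ • (g : G ⧸ H) = (g : G ⧸ H) at hx
      rw [MulAction.Quotient.smul_mk, eq_comm, QuotientGroup.eq, smul_eq_mul, ← mul_assoc] at hx
      refine Subtype.ext ?_
      change (g : G ⧸ H) = ((1 : G) : G ⧸ H)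
      rw [QuotientGroup.eq]
      simpa using h g hx
  rw [Fintype.card_eq_nat_card, Fintype.card_eq_nat_card, h1'] at this
  rw [index, Nat.odd_iff]
  exact this

theorem vl_of_odd (H : Subgroup G) (h : Odd H.index) : vl (Nat.card G) = vl (Nat.card H) := by
  rw [← H.card_mul_index, vl_mul Nat.card_pos.ne' H.index_ne_zero_of_finite, vl_odd h, add_zero]

end grp

variable {F V : Type} [Field F] [AddCommGroup V] [Module F V] {Q : QuadraticForm F V}

/-- an orthogonal family of nonsingular vectors -/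
def OG (Q : QuadraticForm F V) {ι : Type} (u : ι → V) : Prop :=
  (∀ i, Q (u i) ≠ 0) ∧ ∀ i j, i ≠ j → polar Q (u i) (u j) = 0

section og

variable {ι : Type} {u v : ι → V}

theorem OG.li (h2 : (2 : F) ≠ 0) (h : OG Q u) : LinearIndependent F u := by
  refine LinearMap.BilinForm.linearIndependent_of_iIsOrtho (B := polarBilin Q)
    (fun i j ne => h.2 i j ne) fun i => ?_
  change polar Q (u i) (u i) ≠ 0
  rw [polar_self']
  exact mul_ne_zero h2 (h.1 i)

theorem OG.witt [Finite ι] (hQ : (polarBilin Q).Nondegenerate) (h2 : (2 : F) ≠ 0) (hu : OG Q u)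
    (hv : OG Q v) (hq : ∀ i, Q (u i) = Q (v i)) : ∃ g : O Q, ∀ i, g.1 (u i) = v i :=
  witt_family hQ u v (hu.li h2) (hv.li h2) hq fun i j ne => by rw [hu.2 i j ne, hv.2 i j ne]

theorem OG.nondeg [Fintype ι] (h2 : (2 : F) ≠ 0) (h : OG Q u) :
    NondegOn Q (Submodule.span F (Set.range u)) := by
  classical
  intro x hx hx0
  obtain ⟨c, rfl⟩ := (Submodule.mem_span_range_iff_exists_fun F).1 hx
  have : ∀ j, c j = 0 := fun j => by
    have := hx0 (u j) (Submodule.subset_span ⟨j, rfl⟩)
    rw [polar_sum_left, Finset.sum_eq_single j (fun i _ ne => by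
      rw [polar_smul_left', h.2 i j ne, mul_zero]) (by simp), polar_smul_left', polar_self'] at this
    exact (mul_eq_zero.1 this).resolve_right (mul_ne_zero h2 (h.1 j))
  simp [this]

theorem OG.finrank [Fintype ι] (h2 : (2 : F) ≠ 0) (h : OG Q u) :
    finrank F (Submodule.span F (Set.range u)) = Fintype.card ι :=
  finrank_span_eq_card (h.li h2)

theorem OG.sum {κ : Type} {w : κ → V} (hu : OG Q u) (hw : OG Q w)
    (h : ∀ i j, polar Q (u i) (w j) = 0) : OG Q (Sum.elim u w) := by
  refine ⟨fun i => by cases i; exacts [hu.1 _, hw.1 _], fun i j ne => ?_⟩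
  rcases i with i | i <;> rcases j with j | j
  · exact hu.2 i j fun e => ne (by rw [e])
  · exact h i j
  · rw [polar_comm]; exact h j i
  · exact hw.2 i j fun e => ne (by rw [e])

theorem og_two {x y : V} (hx : Q x ≠ 0) (hy : Q y ≠ 0) (h : polar Q x y = 0) : OG Q ![x, y] := by
  refine ⟨fun i => by fin_cases i; exacts [hx, hy], fun i j ne => ?_⟩
  fin_cases i <;> fin_cases j
  · exact absurd rfl ne
  · exact h
  · rw [polar_comm]; exact h
  · exact absurd rfl ne

theorem pl_eq (x y : V) : pl (F := F) x y = Submodule.span F (Set.range ![x, y]) := by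
  rw [pl]; congr 1; simp [Set.pair_comm]

end og

section onp

variable {k : ℕ} {e f : Fin k → V}

theorem onp_og (h : ONP Q e f) : OG Q (Sum.elim e f) :=
  OG.sum ⟨fun i => by rw [h.qe]; exact one_ne_zero, h.ee⟩
    ⟨fun i => by rw [h.qf]; exact one_ne_zero, h.ff⟩ h.ef

theorem span_eq : Submodule.span F (Set.range e ∪ Set.range f) =
    Submodule.span F (Set.range (Sum.elim e f)) := by rw [Set.Sum.elim_range]

theorem W_nondeg (h2 : (2 : F) ≠ 0) (h : ONP Q e f) :
    NondegOn Q (Submodule.span F (Set.range e ∪ Set.range f)) := by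
  rw [span_eq]; exact (onp_og h).nondeg h2

theorem W_finrank (h2 : (2 : F) ≠ 0) (h : ONP Q e f) :
    finrank F (Submodule.span F (Set.range e ∪ Set.range f)) = 2 * k := by
  rw [span_eq, (onp_og h).finrank h2]; simp [two_mul]

theorem mem_V0 {x : V} : x ∈ perp Q (Submodule.span F (Set.range e ∪ Set.range f)) ↔
    (∀ i, polar Q (e i) x = 0) ∧ ∀ i, polar Q (f i) x = 0 := by
  rw [mem_perp_span]
  constructor
  · exact fun h => ⟨fun i => h _ (Or.inl ⟨i, rfl⟩), fun i => h _ (Or.inr ⟨i, rfl⟩)⟩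
  · rintro h _ (⟨i, rfl⟩ | ⟨i, rfl⟩)
    exacts [h.1 i, h.2 i]

theorem onp_cons (h : ONP Q e f) {x y : V}
    (hx : x ∈ perp Q (Submodule.span F (Set.range e ∪ Set.range f)))
    (hy : y ∈ perp Q (Submodule.span F (Set.range e ∪ Set.range f)))
    (qx : Q x = 1) (qy : Q y = 1) (o : polar Q x y = 0) :
    ONP Q (Fin.cons x e : Fin (k + 1) → V) (Fin.cons y f) := by
  rw [mem_V0] at hx hy
  refine ⟨fun i => ?_, fun i => ?_, fun i j => ?_, fun i j ne => ?_, fun i j ne => ?_⟩
  · refine Fin.cases ?_ (fun i => ?_) i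
    exacts [qx, h.qe i]
  · refine Fin.cases ?_ (fun i => ?_) i
    exacts [qy, h.qf i]
  · refine Fin.cases ?_ (fun i => ?_) i <;> refine Fin.cases ?_ (fun j => ?_) j
    · exact o
    · rw [polar_comm]; exact hx.2 j
    · exact hy.1 i
    · exact h.ef i j
  · revert ne
    refine Fin.cases ?_ (fun i => ?_) i <;> refine Fin.cases ?_ (fun j => ?_) j <;> intro ne
    · exact absurd rfl ne
    · rw [polar_comm]; exact hx.1 j
    · exact hx.1 i
    · exact h.ee i j fun e => ne (by rw [e])
  · revert ne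
    refine Fin.cases ?_ (fun i => ?_) i <;> refine Fin.cases ?_ (fun j => ?_) j <;> intro ne
    · exact absurd rfl ne
    · rw [polar_comm]; exact hy.2 j
    · exact hy.2 i
    · exact h.ff i j fun e => ne (by rw [e])

end onp

theorem exists_max [FiniteDimensional F V] (h2 : (2 : F) ≠ 0) (Q : QuadraticForm F V) :
    ∃ (k : ℕ) (e f : Fin k → V), ONP Q e f ∧
      ∀ x ∈ perp Q (Submodule.span F (Set.range e ∪ Set.range f)),
        ∀ y ∈ perp Q (Submodule.span F (Set.range e ∪ Set.range f)),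
        Q x = 1 → Q y = 1 → polar Q x y ≠ 0 := by
  by_contra hn
  push Not at hn
  have : ∀ k : ℕ, ∃ e f : Fin k → V, ONP Q e f := by
    intro k
    induction k with
    | zero =>
      exact ⟨Fin.elim0, Fin.elim0, fun i => i.elim0, fun i => i.elim0, fun i => i.elim0,
        fun i => i.elim0, fun i => i.elim0⟩
    | succ k ih =>
      obtain ⟨e, f, h⟩ := ih
      obtain ⟨x, hx, y, hy, qx, qy, o⟩ := hn k e f h
      exact ⟨_, _, onp_cons h hx hy qx qy o⟩
  obtain ⟨e, f, h⟩ := this (finrank F V + 1)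
  have h1 := W_finrank h2 h
  have h3 := Submodule.finrank_le (Submodule.span F (Set.range e ∪ Set.range f))
  omega

/-- the isometries supported on `B` -/
def Sup (Q : QuadraticForm F V) (B : Submodule F V) : Subgroup (O Q) where
  carrier := {g | ∀ w ∈ perp Q B, g.1 w = w}
  mul_mem' {a b} ha hb w hw := by rw [O_mul_apply, hb w hw, ha w hw]
  one_mem' _ _ := rfl
  inv_mem' {a} ha w hw := O_inv_apply_eq.2 (ha w hw).symm

/-- the stabiliser of the system of planes -/
def DD (Q : QuadraticForm F V) {k : ℕ} (e f : Fin k → V) : Subgroup (O Q) where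
  carrier := {g | ∃ π, OInd Q e f g π}
  mul_mem' := fun ⟨_, ha⟩ ⟨_, hb⟩ => ⟨_, ind_mul ha hb⟩
  one_mem' := ⟨1, ind_one⟩
  inv_mem' := fun ⟨_, ha⟩ => ⟨_, ind_inv ha⟩

/-- the action on the planes -/
noncomputable def act (h2 : (2 : F) ≠ 0) {k : ℕ} {e f : Fin k → V} (h : ONP Q e f) :
    DD Q e f →* Equiv.Perm (Fin k) :=
  MonoidHom.mk' (fun g => g.2.choose) fun a b =>
    ind_uniq h2 h (a * b).2.choose_spec (ind_mul a.2.choose_spec b.2.choose_spec)

theorem act_eq (h2 : (2 : F) ≠ 0) {k : ℕ} {e f : Fin k → V} (h : ONP Q e f) (g : DD Q e f)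
    {π : Equiv.Perm (Fin k)} (hg : OInd Q e f g.1 π) : act h2 h g = π :=
  ind_uniq h2 h g.2.choose_spec hg

theorem maps_pl (g : O Q) (x y : V) :
    OMaps Q g (pl x y) (pl (g.1 x) (g.1 y)) := fun v => by
  rw [mem_pl, mem_pl]
  refine exists_congr fun a => exists_congr fun b => ?_
  rw [← map_smul, ← map_smul, ← map_add]
  exact g.1.injective.eq_iff.symm

theorem act_surj (hQ : (polarBilin Q).Nondegenerate) (h2 : (2 : F) ≠ 0) {k : ℕ}
    {e f : Fin k → V} (h : ONP Q e f) : Function.Surjective (act h2 h) := by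
  intro π
  have h' : ONP Q (fun i => e (π i)) (fun i => f (π i)) :=
    ⟨fun _ => h.qe _, fun _ => h.qf _, fun _ _ => h.ef _ _,
      fun _ _ ne => h.ee _ _ (π.injective.ne ne), fun _ _ ne => h.ff _ _ (π.injective.ne ne)⟩
  obtain ⟨g, hg⟩ := (onp_og h).witt hQ h2 (onp_og h') fun i => by
    rcases i with i | i
    · exact (h.qe _).trans (h.qe _).symm
    · exact (h.qf _).trans (h.qf _).symm
  have hi : OInd Q e f g π := fun i => by
    have := maps_pl g (e i) (f i)
    rwa [show g.1 (e i) = e (π i) from hg (Sum.inl i),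
      show g.1 (f i) = f (π i) from hg (Sum.inr i)] at this
  exact ⟨⟨g, π, hi⟩, act_eq h2 h _ hi⟩

section main

variable [Fintype F] [FiniteDimensional F V]

theorem q_odd (h2 : (2 : F) ≠ 0) : Odd (Nat.card F) := by
  rw [Nat.card_eq_fintype_card, Nat.odd_iff]
  refine FiniteField.odd_card_of_char_ne_two fun h => h2 ?_
  exact_mod_cast (ringChar.spec F 2).2 (h ▸ dvd_rfl)

theorem q_gt : 1 < Nat.card F := Finite.one_lt_card

theorem sub_mem_of_sup (hQ : (polarBilin Q).Nondegenerate) {B : Submodule F V} {g : O Q}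
    (hg : g ∈ Sup Q B) (v : V) : g.1 v - v ∈ B := by
  rw [← perp_perp hQ B, mem_perp]
  intro w hw
  rw [polar_sub_right]
  nth_rewrite 1 [← hg w hw]
  rw [O_polar, sub_self]

theorem card_sup {B : Submodule F V} (hB : NondegOn Q B) :
    Nat.card (O (Q.restrict B)) ∣ Nat.card (Sup Q B) := by
  refine card_dvd_of_injective
    (((orthSum hB.orthDec).comp (MonoidHom.inl _ _)).codRestrict (Sup Q B) fun g w hw =>
      orthSum_apply_right hB.orthDec (g, 1) ⟨w, hw⟩) fun a b hab => ?_
  exact (Prod.ext_iff.1 (orthSum_injective hB.orthDec (congrArg Subtype.val hab))).1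

theorem prod_dvd (hQ : (polarBilin Q).Nondegenerate) {ι : Type} [Fintype ι]
    (B : ι → Submodule F V) (hB : ∀ i, NondegOn Q (B i))
    (o : ∀ i j, i ≠ j → B i ≤ perp Q (B j)) (K : Subgroup (O Q)) (hK : ∀ i, Sup Q (B i) ≤ K) :
    ∏ i, Nat.card (O (Q.restrict (B i))) ∣ Nat.card K := by
  have key : ∀ i j, i ≠ j → ∀ x ∈ Sup Q (B i), ∀ y ∈ Sup Q (B j), ∀ v,
      (x * y).1 v = x.1 v + y.1 v - v := fun i j ne x hx y hy v => by
    have := hx _ (o j i ne.symm (sub_mem_of_sup hQ hy v))
    rw [map_sub] at this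
    rw [O_mul_apply, add_sub_assoc, ← this]; abel
  have hc : Pairwise fun i j => ∀ x y : O Q, x ∈ Sup Q (B i) → y ∈ Sup Q (B j) → Commute x y :=
    fun i j ne x y hx hy => O_ext fun v => by
      rw [key i j ne x hx y hy, key j i ne.symm y hy x hx, add_comm]
  have hi : iSupIndep fun i => Sup Q (B i) := fun i => by
    have : (⨆ j, ⨆ (_ : j ≠ i), Sup Q (B j)) ≤ Sup Q (perp Q (B i)) :=
      iSup_le fun j => iSup_le fun ne g hg w hw => by
        rw [perp_perp hQ] at hw
        exact hg w (o i j ne.symm hw)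
    refine Disjoint.mono_right this (disjoint_def.2 fun {g} h1 h3 => ?_)
    exact O_ext_orthDec (hB i).orthDec (fun u hu => h3 u (le_perp_perp _ hu)) h1
  have h1 : Nat.card (∀ i, Sup Q (B i)) ∣ Nat.card K := by
    refine card_dvd_of_injective ((Subgroup.noncommPiCoprod hc).codRestrict K fun x => ?_)
      fun a b hab => injective_noncommPiCoprod_of_iSupIndep hi (congrArg Subtype.val hab)
    have : Subgroup.noncommPiCoprod hc x ∈ (Subgroup.noncommPiCoprod hc).range := ⟨x, rfl⟩
    rw [Subgroup.noncommPiCoprod_range] at this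
    exact iSup_le hK this
  rw [Nat.card_pi] at h1
  exact (Finset.prod_dvd_prod_of_dvd _ _ fun i _ => card_sup (hB i)).trans h1

theorem card_two (hQ : (polarBilin Q).Nondegenerate) (hV : finrank F V = 2) :
    (H79.IsPlus (F := F) Q ∧ Nat.card (O Q) = 2 * (Nat.card F - 1)) ∨
    (¬ H79.IsPlus (F := F) Q ∧ Nat.card (O Q) = 2 * (Nat.card F + 1)) := by
  by_cases hp : H79.IsPlus (F := F) Q
  · exact Or.inl ⟨hp, by simpa using card_O_plus hQ (m := 1) le_rfl hV hp⟩
  · exact Or.inr ⟨hp, by simpa using card_O_minus hQ (m := 1) le_rfl hV hp⟩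

theorem vl_plane (hQ : (polarBilin Q).Nondegenerate) (h2 : (2 : F) ≠ 0) (hV : finrank F V = 2) :
    2 ≤ vl (Nat.card (O Q)) := by
  have h1 := q_gt (F := F)
  have ho := Nat.odd_iff.1 (q_odd h2)
  rcases card_two hQ hV with ⟨-, h⟩ | ⟨-, h⟩ <;> rw [h, vl_mul (by omega) (by omega), vl_two]
  · have := vl_pos (a := Nat.card F - 1) (by omega) (Nat.even_iff.2 (by omega))
    omega
  · have := vl_pos (a := Nat.card F + 1) (by omega) (Nat.even_iff.2 (by omega))
    omega

theorem vl_on (hQ : (polarBilin Q).Nondegenerate) (h2 : (2 : F) ≠ 0) (hV : finrank F V = 2)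
    {x y : V} (qx : Q x = 1) (qy : Q y = 1) (o : polar Q x y = 0) :
    vl (Nat.card F + 1) + vl (Nat.card F - 1) ≤ vl (Nat.card (O Q)) := by
  have h1 := q_gt (F := F)
  have ho := Nat.odd_iff.1 (q_odd h2)
  have hs : IsSquare (-1 : F) ↔ Nat.card F % 4 ≠ 3 := by
    rw [Nat.card_eq_fintype_card]; exact FiniteField.isSquare_neg_one_iff
  have og : OG Q ![x, y] := og_two (by rw [qx]; exact one_ne_zero) (by rw [qy]; exact one_ne_zero) o
  have hq : ∀ a b : F, Q (a • x + b • y) = a * a + b * b := fun a b => by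
    rw [Q_add, Q_smul, Q_smul, polar_smul_left', polar_smul_right', qx, qy, o]; ring
  rcases card_two hQ hV with ⟨hp, h⟩ | ⟨hp, h⟩ <;> rw [h, vl_mul (by omega) (by omega), vl_two]
  · obtain ⟨U, hU, hU0⟩ := hp
    obtain ⟨u, hu, hu0⟩ := Submodule.exists_mem_ne_zero_of_ne_bot (p := U) (by
      rintro rfl
      rw [finrank_bot] at hU; omega)
    have : u ∈ pl (F := F) x y := by
      rw [pl_eq, (og.li h2).span_eq_top_of_card_eq_finrank' (by simp [hV])]; trivial
    obtain ⟨a, b, rfl⟩ := mem_pl.1 this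
    have h0 := hU0 _ hu
    rw [hq] at h0
    have hb : b ≠ 0 := by
      rintro rfl
      have : a = 0 := by simpa using h0
      exact hu0 (by simp [this])
    have : IsSquare (-1 : F) := ⟨a / b, by field_simp; linear_combination -h0⟩
    have := hs.1 this
    rw [vl_eq_one (n := Nat.card F + 1) (by omega)]
  · have : ¬ IsSquare (-1 : F) := by
      rintro ⟨s, hs⟩
      have h0 := anisotropic_of_not_isPlus hV hp (s • x + (1 : F) • y) (by
        rw [hq]; linear_combination -hs)
      have := congrArg (polar Q y) h0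
      rw [polar_add_right, polar_smul_right', polar_smul_right', polar_comm Q y x, o, polar_self',
        qy, polar_zero_right] at this
      exact h2 (by linear_combination this)
    have := hs.not.1 this
    rw [vl_eq_one (n := Nat.card F - 1) (by omega)]
    omega

theorem vl_DD (hQ : (polarBilin Q).Nondegenerate) (h2 : (2 : F) ≠ 0) {k : ℕ} {e f : Fin k → V}
    (h : ONP Q e f) :
    vl (PP (Nat.card F) k) +
      vl (Nat.card (O (Q.restrict (perp Q (Submodule.span F (Set.range e ∪ Set.range f)))))) ≤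
      vl (Nat.card (DD Q e f)) := by
  have : Finite (O Q) := finite_O
  set W := Submodule.span F (Set.range e ∪ Set.range f) with hW
  have og : ∀ i, OG Q ![e i, f i] := fun i =>
    og_two (by rw [h.qe]; exact one_ne_zero) (by rw [h.qf]; exact one_ne_zero) (h.ef i i)
  have nd : ∀ i, NondegOn Q (pl (F := F) (e i) (f i)) := fun i => by
    rw [pl_eq]; exact (og i).nondeg h2
  have fr : ∀ i, finrank F (pl (F := F) (e i) (f i)) = 2 := fun i => by
    rw [pl_eq, (og i).finrank h2]; simp
  have ov : ∀ i, ∀ x ∈ perp Q W, ∀ y ∈ pl (F := F) (e i) (f i), polar Q x y = 0 :=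
    fun i x hx y hy => by
      rw [hW, mem_V0] at hx
      exact polar_pl hy (by rw [polar_comm]; exact hx.1 i) (by rw [polar_comm]; exact hx.2 i)
  let B : Option (Fin k) → Submodule F V := fun o =>
    o.elim (perp Q W) fun i => pl (e i) (f i)
  have hB : ∀ i, NondegOn Q (B i) := by
    rintro (_ | i)
    · exact (W_nondeg h2 h).perp hQ
    · exact nd i
  have o : ∀ i j, i ≠ j → B i ≤ perp Q (B j) := by
    rintro (_ | i) (_ | j) ne x hx
    · exact absurd rfl ne
    · exact mem_perp'.2 fun y hy => ov j x hx y hy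
    · exact mem_perp.2 fun y hy => ov i y hy x hx
    · exact mem_perp'.2 fun y hy => orth h (fun e => ne (by rw [e])) hx hy
  have hK : ∀ j, Sup Q (B j) ≤ (act h2 h).ker.map (DD Q e f).subtype := fun j g hg => by
    have hi : OInd Q e f g 1 := fun i v => by
      change v ∈ B (some i) ↔ g.1 v ∈ B (some i)
      by_cases hj : j = some i
      · have := sub_mem_of_sup hQ hg v
        rw [hj] at this
        exact ⟨fun hv => by simpa using add_mem this hv,
          fun hv => by simpa using sub_mem hv this⟩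
      · constructor
        · intro hv
          rwa [hg v (o _ _ (Ne.symm hj) hv)]
        · intro hv
          have := (inv_mem hg) _ (o _ _ (Ne.symm hj) hv)
          rw [O_inv_apply] at this
          rwa [this]
    exact ⟨⟨g, 1, hi⟩, act_eq h2 h _ hi, rfl⟩
  have h1 := prod_dvd hQ B hB o _ hK
  rw [card_map_of_injective (DD Q e f).subtype_injective, Fintype.prod_option] at h1
  have h3 := (act h2 h).ker.card_mul_index
  rw [index_ker, MonoidHom.range_eq_top.2 (act_surj hQ h2 h), card_top, Nat.card_perm,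
    Nat.card_eq_fintype_card (α := Fin k), Fintype.card_fin] at h3
  have fin : ∀ j, Nat.card (O (Q.restrict (B j))) ≠ 0 := fun j => by
    have : Finite (O (Q.restrict (B j))) := finite_O
    exact Nat.card_pos.ne'
  have h4 := vl_le Nat.card_pos.ne' h1
  rw [vl_mul (fin _) (Finset.prod_ne_zero_iff.2 fun j _ => fin _)] at h4
  have h5 := vl_prod Finset.univ (fun i : Fin k => Nat.card (O (Q.restrict (B (some i)))))
    (vl (Nat.card F + 1) + vl (Nat.card F - 1)) (fun _ => fin _) fun i =>
      vl_on (nd i).restrict h2 (fr i) (x := ⟨e i, l_mem _ _⟩) (y := ⟨f i, r_mem _ _⟩)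
        (h.qe i) (h.qf i) (by rw [polar_restrict]; exact h.ef i i)
  rw [Finset.card_univ, Fintype.card_fin] at h5
  rw [← h3, vl_mul Nat.card_pos.ne' (Nat.factorial_ne_zero k), vl_PP q_gt (q_odd h2)]
  change _ + vl (Nat.card (O (Q.restrict (B none)))) ≤ _
  omega

theorem mem_perp_range {ι : Type} {u : ι → V} {x : V} :
    x ∈ perp Q (Submodule.span F (Set.range u)) ↔ ∀ i, polar Q (u i) x = 0 := by
  rw [mem_perp_span]; simp

theorem vl_odd_dim (hQ : (polarBilin Q).Nondegenerate) (h2 : (2 : F) ≠ 0) {k : ℕ}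
    (hV : finrank F V = 2 * k + 1) : vl (Nat.card (O Q)) = 1 + vl (PP (Nat.card F) k) := by
  have h1 := q_gt (F := F)
  rw [card_O_odd hQ hV]
  change vl (_ * PP _ k) = _
  rw [vl_mul (by positivity) (PP_ne h1 k), vl_mul (by omega) (by positivity), vl_two,
    vl_odd (q_odd h2).pow]

theorem vl_even_dim (hQ : (polarBilin Q).Nondegenerate) (h2 : (2 : F) ≠ 0) {k : ℕ}
    (hV : finrank F V = 2 * k) : vl (Nat.card (O Q)) ≤ vl (PP (Nat.card F) k) := by
  have h1 := q_gt (F := F)
  rcases k with _ | k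
  · rw [card_O_of_finrank_zero (by simpa using hV)]; simp
  have hp := Nat.one_lt_pow (n := k + 1) (by omega) h1
  have ho := Nat.odd_iff.1 ((q_odd h2).pow (n := k + 1))
  have e : Nat.card F ^ (2 * (k + 1)) - 1 =
      (Nat.card F ^ (k + 1) + 1) * (Nat.card F ^ (k + 1) - 1) := by
    rw [← Nat.sq_sub_sq, one_pow, ← pow_mul, mul_comm]
  have a1 := vl_pos (a := Nat.card F ^ (k + 1) - 1) (by omega) (Nat.even_iff.2 (by omega))
  have a2 := vl_pos (a := Nat.card F ^ (k + 1) + 1) (by omega) (Nat.even_iff.2 (by omega))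
  rw [PP_succ, vl_mul (PP_ne h1 k) (pow_sub_ne h1 (by omega)), e, vl_mul (by omega) (by omega)]
  by_cases hp' : H79.IsPlus (F := F) Q
  · rw [card_O_plus hQ (by omega) hV hp']
    change vl (_ * PP _ k) ≤ _
    rw [vl_mul (mul_ne_zero (by positivity) (by omega)) (PP_ne h1 k),
      vl_mul (by positivity) (by omega), vl_mul (by omega) (by positivity), vl_two,
      vl_odd (q_odd h2).pow]
    omega
  · rw [card_O_minus hQ (by omega) hV hp']
    change vl (_ * PP _ k) ≤ _
    rw [vl_mul (mul_ne_zero (by positivity) (by omega)) (PP_ne h1 k),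
      vl_mul (by positivity) (by omega), vl_mul (by omega) (by positivity), vl_two,
      vl_odd (q_odd h2).pow]
    omega

theorem vl_line (hQ : (polarBilin Q).Nondegenerate) (h2 : (2 : F) ≠ 0) {k : ℕ}
    (hV : finrank F V = 2 * k + 2) {v : V} (qv : Q v = 1) (τ : O Q) (h4 : τ ^ 4 = 1)
    (hv : τ.1 v = v) (hu : ∀ u, Q u = 1 → (τ.1 u = u ∨ τ.1 u = -u) → u ∈ F ∙ v) :
    vl (Nat.card (O Q)) = 2 + vl (PP (Nat.card F) k) := by
  have : Finite (O Q) := finite_O
  have v0 : v ≠ 0 := ne_zero_of_Q_ne_zero (by rw [qv]; exact one_ne_zero)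
  have nd : NondegOn Q (F ∙ v) := fun x hx h0 => by
    obtain ⟨a, rfl⟩ := Submodule.mem_span_singleton.1 hx
    have := h0 v (Submodule.mem_span_singleton_self v)
    rw [polar_smul_left', polar_self', qv, mul_one] at this
    rw [(mul_eq_zero.1 this).resolve_right h2, zero_smul]
  have fr : finrank F (F ∙ v) = 1 := finrank_span_singleton v0
  have fr' := finrank_add_finrank_perp hQ (F ∙ v)
  have mem : ∀ g : O Q, g ∈ (orthSum nd.orthDec).range ↔ g.1 v ∈ F ∙ v := fun g => by
    constructor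
    · rintro ⟨x, rfl⟩
      rw [orthSum_apply_left nd.orthDec x ⟨v, Submodule.mem_span_singleton_self v⟩]
      exact Subtype.prop _
    · intro hg
      refine exists_orthSum_eq hQ _ g fun u hu => ?_
      obtain ⟨a, rfl⟩ := Submodule.mem_span_singleton.1 hu
      rw [map_smul]
      exact Submodule.smul_mem _ _ hg
  have ho := odd_index (orthSum nd.orthDec).range τ h4
    ((mem τ).2 (by rw [hv]; exact Submodule.mem_span_singleton_self v)) fun g hg => by
      rw [mem] at hg ⊢
      obtain ⟨c, hc⟩ := Submodule.mem_span_singleton.1 hg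
      rw [mul_assoc, O_mul_apply, eq_comm, O_inv_apply_eq, O_mul_apply, map_smul] at hc
      have qu : Q (g.1 v) = 1 := by rw [O_map, qv]
      have := O_map τ (g.1 v)
      rw [hc, Q_smul, qu, mul_one] at this
      refine hu _ qu ?_
      rcases mul_self_eq_one_iff.1 this with rfl | rfl
      · exact Or.inl (by simpa using hc)
      · exact Or.inr (by simpa using hc)
  have : Finite (O (Q.restrict (perp Q (F ∙ v)))) := finite_O
  rw [vl_of_odd _ ho, ← Nat.card_congr (MonoidHom.ofInjective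
    (orthSum_injective nd.orthDec)).toEquiv, Nat.card_prod, card_O_of_finrank_one nd.restrict fr,
    vl_mul (by omega) Nat.card_pos.ne', vl_two,
    vl_odd_dim (nd.perp hQ).restrict h2 (k := k) (by omega)]
  omega

theorem vl_top (hQ : (polarBilin Q).Nondegenerate) (h2 : (2 : F) ≠ 0) {k : ℕ} {e f : Fin k → V}
    (h : ONP Q e f)
    (hm : ∀ x ∈ perp Q (Submodule.span F (Set.range e ∪ Set.range f)),
      ∀ y ∈ perp Q (Submodule.span F (Set.range e ∪ Set.range f)),
      Q x = 1 → Q y = 1 → polar Q x y ≠ 0) :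
    vl (Nat.card (O Q)) ≤ vl (PP (Nat.card F) k) +
      vl (Nat.card (O (Q.restrict (perp Q (Submodule.span F (Set.range e ∪ Set.range f)))))) := by
  have fr := finrank_add_finrank_perp hQ (Submodule.span F (Set.range e ∪ Set.range f))
  rw [W_finrank h2 h] at fr
  have nd := (W_nondeg h2 h).perp hQ
  rcases Nat.lt_or_ge
    (finrank F (perp Q (Submodule.span F (Set.range e ∪ Set.range f)))) 2 with hr | hr
  · rcases Nat.lt_or_ge
      (finrank F (perp Q (Submodule.span F (Set.range e ∪ Set.range f)))) 1 with hr' | hr'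
    · exact (vl_even_dim hQ h2 (k := k) (by omega)).trans (Nat.le_add_right _ _)
    · rw [vl_odd_dim hQ h2 (k := k) (by omega), card_O_of_finrank_one nd.restrict (by omega),
        vl_two, add_comm]
  obtain ⟨v, hv, qv⟩ := nd.exists_Q_eq hr 1
  have hv' := mem_V0.1 hv
  have og1 : OG Q (Sum.elim (Sum.elim e f) fun _ : Unit => v) :=
    (onp_og h).sum ⟨fun _ => by rw [qv]; exact one_ne_zero, fun _ _ ne => absurd rfl ne⟩
      fun i _ => by cases i; exacts [hv'.1 _, hv'.2 _]
  have fr1 := finrank_add_finrank_perp hQ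
    (Submodule.span F (Set.range (Sum.elim (Sum.elim e f) fun _ : Unit => v)))
  rw [og1.finrank h2] at fr1
  simp only [Fintype.card_sum, Fintype.card_fin, Fintype.card_unit] at fr1
  have nd1 := (og1.nondeg h2).perp hQ
  have hV : finrank F V = 2 * k + 2 := by
    by_contra hn
    obtain ⟨y, hy, qy⟩ := nd1.exists_Q_eq (by omega) 1
    rw [mem_perp_range] at hy
    exact hm v hv y (mem_V0.2 ⟨fun i => hy (.inl (.inl i)), fun i => hy (.inl (.inr i))⟩) qv qy
      (hy (.inr ()))
  obtain ⟨w, hw, qw⟩ := nd1.exists_Q_ne_zero (by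
    intro h0
    rw [h0, finrank_bot] at fr1; omega)
  rw [mem_perp_range] at hw
  have og2 : OG Q (Sum.elim (Sum.elim e f) ![v, w]) :=
    (onp_og h).sum (og_two (by rw [qv]; exact one_ne_zero) qw (hw (.inr ()))) fun i j => by
      fin_cases j
      · cases i; exacts [hv'.1 _, hv'.2 _]
      · exact hw (.inl i)
  have h' : ONP Q f fun i => -e i :=
    ⟨h.qf, fun i => by rw [QuadraticMap.map_neg, h.qe],
      fun i j => by rw [polar_neg_right, polar_comm, h.ef, neg_zero], h.ff,
      fun i j ne => by rw [polar_neg_right, polar_neg_left, h.ee i j ne, neg_neg]⟩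
  have og3 : OG Q (Sum.elim (Sum.elim f fun i => -e i) ![v, -w]) :=
    (onp_og h').sum (og_two (by rw [qv]; exact one_ne_zero) (by rwa [QuadraticMap.map_neg])
      (by rw [polar_neg_right, show polar Q v w = 0 from hw (.inr ()), neg_zero])) fun i j => by
      fin_cases j <;> rcases i with i | i
      · exact hv'.2 i
      · change polar Q (-e i) v = 0
        rw [polar_neg_left, hv'.1, neg_zero]
      · change polar Q (f i) (-w) = 0
        rw [polar_neg_right, show polar Q (f i) w = 0 from hw (.inl (.inr i)), neg_zero]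
      · change polar Q (-e i) (-w) = 0
        rw [polar_neg_right, polar_neg_left, show polar Q (e i) w = 0 from hw (.inl (.inl i)),
          neg_neg]
  obtain ⟨τ, hτ⟩ := og2.witt hQ h2 og3 fun i => by
    rcases i with (i | i) | i
    · exact (h.qe i).trans (h.qf i).symm
    · exact (h.qf i).trans (h'.qf i).symm
    · fin_cases i
      · rfl
      · exact (QuadraticMap.map_neg Q w).symm
  have te : ∀ i, τ.1 (e i) = f i := fun i => hτ (.inl (.inl i))
  have tf : ∀ i, τ.1 (f i) = -e i := fun i => hτ (.inl (.inr i))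
  have tv : τ.1 v = v := hτ (.inr 0)
  have tw : τ.1 w = -w := hτ (.inr 1)
  have zero : ∀ x, (∀ i, polar Q (e i) x = 0) → (∀ i, polar Q (f i) x = 0) → polar Q v x = 0 →
      polar Q w x = 0 → x = 0 := fun x a b c d => by
    have : x ∈ perp Q (Submodule.span F (Set.range (Sum.elim (Sum.elim e f) ![v, w]))) :=
      mem_perp_range.2 fun i => by
        rcases i with (i | i) | i
        · exact a i
        · exact b i
        · fin_cases i
          exacts [c, d]
    rwa [(og2.li h2).span_eq_top_of_card_eq_finrank' (by simp [hV]; omega), perp_top hQ,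
      Submodule.mem_bot] at this
  have p4 : ∀ x, (τ ^ 4).1 x = τ.1 (τ.1 (τ.1 (τ.1 x))) := fun x => by
    rw [show τ ^ 4 = τ * (τ * (τ * τ)) by simp only [pow_succ, pow_zero, one_mul, mul_assoc]]; rfl
  have h4 : τ ^ 4 = 1 := O_ext fun y => by
    have : ∀ b, (τ ^ 4).1 b = b → polar Q b ((τ ^ 4).1 y - y) = 0 := fun b hb => by
      rw [polar_sub_right]
      nth_rewrite 1 [← hb]
      rw [O_polar, sub_self]
    refine sub_eq_zero.1 (zero _ (fun i => this _ ?_) (fun i => this _ ?_) (this _ ?_) (this _ ?_))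
      <;> rw [p4] <;> simp only [te, tf, tv, tw, map_neg, neg_neg]
  have two : ∀ a : F, a = -a → a = 0 := fun a ha =>
    (mul_eq_zero.1 (show 2 * a = 0 by linear_combination ha)).resolve_left h2
  rw [vl_line hQ h2 hV qv τ h4 tv fun u qu hu => ?_]
  · have := vl_plane nd.restrict h2 (by omega)
    omega
  have t2 : τ.1 (τ.1 u) = u := by
    rcases hu with hu | hu
    · rw [hu, hu]
    · rw [hu, map_neg, hu, neg_neg]
  have ue : ∀ i, polar Q (e i) u = 0 := fun i => two _ (by
    nth_rewrite 1 [← O_polar τ, ← O_polar τ]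
    rw [t2, te, tf, polar_neg_left])
  have uf : ∀ i, polar Q (f i) u = 0 := fun i => two _ (by
    nth_rewrite 1 [← O_polar τ, ← O_polar τ]
    rw [t2, tf, map_neg, te, polar_neg_left])
  rcases hu with hu | hu
  · have uw : polar Q w u = 0 := two _ (by
      nth_rewrite 1 [← O_polar τ]
      rw [hu, tw, polar_neg_left])
    refine Submodule.mem_span_singleton.2 ⟨polar Q v u / 2, (sub_eq_zero.1 (zero _ (fun i => ?_)
      (fun i => ?_) ?_ ?_)).symm⟩ <;> rw [polar_sub_right, polar_smul_right']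
    · rw [ue, hv'.1]; simp
    · rw [uf, hv'.2]; simp
    · rw [polar_self', qv]; field_simp; ring
    · rw [uw, polar_comm Q w v, show polar Q v w = 0 from hw (.inr ())]; simp
  · refine absurd (two _ ?_) (hm v hv u (mem_V0.2 ⟨ue, uf⟩) qv qu)
    nth_rewrite 1 [← O_polar τ]
    rw [hu, tv, polar_neg_right]

end main

theorem o1 : O1Stmt := by
  intro F V _ _ _ _ _ Q h2 hQ
  obtain ⟨k, e, f, h, hm⟩ := exists_max h2 Q
  have : Finite (O Q) := finite_O
  obtain ⟨S, hS⟩ := syl_le (DD Q e f) ((vl_top hQ h2 h hm).trans (vl_DD hQ h2 h))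
  exact ⟨k, e, f, h, hm, S, fun s hs => hS hs⟩

end Cfsg.Agent.H82.FkO1
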