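import Cfsg.Agent.H44.K5Defs

set_option autoImplicit false

namespace Cfsg.Agent.H82.K5Uni

open Matrix

def blk {n : ℕ} (M : Matrix (Fin n) (Fin n) ℤ) : Matrix (Fin (n + 1)) (Fin (n + 1)) ℤ :=
  Matrix.of fun i j => Fin.cases (Fin.cases 1 (fun _ => 0) j) (fun i => Fin.cases 0 (fun j => M i j) j) i

def eE {n : ℕ} (b : Fin n → ℤ) : Matrix (Fin (n + 1)) (Fin (n + 1)) ℤ :=
  Matrix.of fun i j => Fin.cases (Fin.cases 1 (fun j => -b j) j)
    (fun i => Fin.cases 0 (fun j => if i = j then 1 else 0) j) i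

theorem blk_mul {n : ℕ} (M N : Matrix (Fin n) (Fin n) ℤ) : blk M * blk N = blk (M * N) := by
  ext i j
  refine Fin.cases ?_ (fun i => ?_) i <;> refine Fin.cases ?_ (fun j => ?_) j <;>
    simp [blk, Matrix.mul_apply, Fin.sum_univ_succ]

theorem blk_tr {n : ℕ} (M : Matrix (Fin n) (Fin n) ℤ) : (blk M)ᵀ = blk Mᵀ := by
  ext i j
  refine Fin.cases ?_ (fun i => ?_) i <;> refine Fin.cases ?_ (fun j => ?_) j <;> simp [blk]

theorem blk_one {n : ℕ} : blk (1 : Matrix (Fin n) (Fin n) ℤ) = 1 := by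
  ext i j
  refine Fin.cases ?_ (fun i => ?_) i <;> refine Fin.cases ?_ (fun j => ?_) j <;>
    simp [blk, Matrix.one_apply, (Fin.succ_ne_zero _).symm]

theorem blk_det {n : ℕ} (M : Matrix (Fin n) (Fin n) ℤ) : (blk M).det = M.det := by
  rw [Matrix.det_succ_row_zero, Fin.sum_univ_succ]
  have : (blk M).submatrix Fin.succ (Fin.succAbove 0) = M := by
    ext i j; simp [blk]
  rw [this]; simp [blk]

theorem eE_det {n : ℕ} (b : Fin n → ℤ) : (eE b).det = 1 := by
  rw [Matrix.det_succ_column_zero, Fin.sum_univ_succ]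
  have : (eE b).submatrix (Fin.succAbove 0) Fin.succ = 1 := by
    ext i j; simp [eE, Matrix.one_apply]
  rw [this]; simp [eE]

theorem key {n : ℕ} (B : Matrix (Fin (n + 1)) (Fin (n + 1)) ℤ) (hs : Bᵀ = B) (h0 : B 0 0 = 1) :
    (eE fun j => B 0 j.succ)ᵀ * B * (eE fun j => B 0 j.succ) =
      blk (Matrix.of fun i j => B i.succ j.succ - B 0 i.succ * B 0 j.succ) := by
  have h : ∀ i, B i 0 = B 0 i := fun i => by
    have := congrFun (congrFun hs 0) i
    simpa using this
  ext i j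
  refine Fin.cases ?_ (fun i => ?_) i <;> refine Fin.cases ?_ (fun j => ?_) j <;>
    simp [blk, eE, Matrix.mul_apply, Fin.sum_univ_succ, h0, h] <;> ring

theorem pos_conj {m : ℕ} (A U : Matrix (Fin m) (Fin m) ℤ) (hU : IsUnit U.det)
    (hp : ∀ x : Fin m → ℤ, x ≠ 0 → 0 < x ⬝ᵥ A *ᵥ x) (x : Fin m → ℤ) (hx : x ≠ 0) :
    0 < x ⬝ᵥ (Uᵀ * A * U) *ᵥ x := by
  have h1 : U *ᵥ x ≠ 0 := fun h => hx (Matrix.eq_zero_of_mulVec_eq_zero hU.ne_zero h)
  have h2 := hp _ h1
  rw [← Matrix.mulVec_mulVec, ← Matrix.mulVec_mulVec, Matrix.dotProduct_mulVec, Matrix.vecMul_transpose]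
  exact h2

theorem uni (herm : H44.K5.HermStmt) : H44.K5.UniStmt := by
  intro n
  induction n with
  | zero => intro _ A _ _ _; exact ⟨1, Subsingleton.elim _ _⟩
  | succ n ih =>
    intro hn A hs hp hd
    obtain ⟨U, hU, hb⟩ := herm n A hs hp
    have hBs : (Uᵀ * A * U)ᵀ = Uᵀ * A * U := by
      simp [Matrix.transpose_mul, hs, Matrix.mul_assoc]
    have hBp := pos_conj A U hU hp
    have hBd : (Uᵀ * A * U).det = 1 := by
      rw [Matrix.det_mul, Matrix.det_mul, Matrix.det_transpose, hd]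
      rcases Int.isUnit_iff.mp hU with h | h <;> simp [h]
    generalize hB : Uᵀ * A * U = B at hb hBs hBp hBd
    have h0 : B 0 0 = 1 := by
      have h1 := hBp (Pi.single 0 1) (by
        intro h; have := congrFun h 0; simp at this)
      simp at h1
      by_contra hne
      have h2 : (2 : ℤ) ≤ B 0 0 := by omega
      have h3 : (2 : ℤ) ^ (n + 1) ≤ B 0 0 ^ (n + 1) := pow_le_pow_left₀ (by norm_num) h2 _
      rw [hd] at hb
      have h4 : (2 : ℤ) ^ (n + 1) * 3 ^ (n * (n + 1) / 2) ≤ 4 ^ (n * (n + 1) / 2) * 1 :=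
        le_trans (mul_le_mul_of_nonneg_right h3 (by positivity)) hb
      have hn' : n ≤ 4 := by omega
      interval_cases n <;> norm_num at h4
    have hk := key B hBs h0
    generalize hS : (Matrix.of fun i j => B i.succ j.succ - B 0 i.succ * B 0 j.succ :
      Matrix (Fin n) (Fin n) ℤ) = S at hk
    generalize hE : (eE fun j => B 0 j.succ) = E at hk
    have hEd : E.det = 1 := hE ▸ eE_det _
    have hSs : Sᵀ = S := by
      have : (blk S)ᵀ = blk S := by
        rw [← hk]; simp [Matrix.transpose_mul, hBs, Matrix.mul_assoc]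
      rw [blk_tr] at this
      ext i j
      have := congrFun (congrFun this i.succ) j.succ
      simpa [blk] using this
    have hSd : S.det = 1 := by
      rw [← blk_det, ← hk, Matrix.det_mul, Matrix.det_mul, Matrix.det_transpose, hEd, hBd]; simp
    have hSp : ∀ x : Fin n → ℤ, x ≠ 0 → 0 < x ⬝ᵥ S *ᵥ x := by
      intro x hx
      have := pos_conj B E (by simp [hEd]) hBp (Fin.cons 0 x) (by
        intro h; apply hx; ext i; have := congrFun h i.succ; simpa using this)
      rw [hk] at this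
      simpa [blk, dotProduct, Matrix.mulVec, Fin.sum_univ_succ] using this
    obtain ⟨V, hV⟩ := ih (by omega) S hSs hSp hSd
    refine ⟨U * (E * blk V), ?_⟩
    have : (U * (E * blk V))ᵀ * A * (U * (E * blk V)) =
        (blk V)ᵀ * (Eᵀ * (Uᵀ * A * U) * E) * blk V := by
      simp [Matrix.transpose_mul, Matrix.mul_assoc]
    rw [this, hB, hk, blk_tr, blk_mul, blk_mul, hV, blk_one]

end Cfsg.Agent.H82.K5Uni
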