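import Cfsg.Agent.H78.McDefs
import Cfsg.Agent.H89.PBasic

/-! Project MC: the centraliser of an element outside a normal subgroup. -/

set_option autoImplicit false

namespace Cfsg.Agent.H82.McInd

open Subgroup Cfsg.Agent.H78.Mc
open Cfsg.Agent.H89 (card_mul_relIndex eq_bot_or_eq_of_card_prime exists_mem_center_of_normal)

universe u

variable {G : Type u} [Group G] [Finite G] {p : ℕ}

theorem lemA (hp : p.Prime) {B : Subgroup G} [B.Normal] (hB : Nat.card B = p) (hc : B ≤ center G)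
    (x : G) {K : Subgroup G} (hK : B ≤ K) :
    (Nat.card ↥(K.map (QuotientGroup.mk' B) ⊓ centralizer {(x : G ⧸ B)}) * p =
      Nat.card ↥(K ⊓ centralizer {x}) ∧ ∀ g ∈ K, g * x * g⁻¹ * x⁻¹ ∈ B → g * x = x * g) ∨
    (Nat.card ↥(K.map (QuotientGroup.mk' B) ⊓ centralizer {(x : G ⧸ B)}) =
      Nat.card ↥(K ⊓ centralizer {x}) ∧ ¬ ∀ g ∈ K, g * x * g⁻¹ * x⁻¹ ∈ B → g * x = x * g) := by
  set U := K ⊓ (centralizer {(x : G ⧸ B)}).comap (QuotientGroup.mk' B) with hU
  have mU : ∀ g, g ∈ U ↔ g ∈ K ∧ g * x * g⁻¹ * x⁻¹ ∈ B := fun g => by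
    rw [hU, mem_inf, mem_comap, mem_centralizer_singleton_iff,
      ← QuotientGroup.eq_one_iff (N := B) (g * x * g⁻¹ * x⁻¹), ← mul_inv_eq_one]
    simp [mul_assoc]
  have h1 : U.map (QuotientGroup.mk' B) =
      K.map (QuotientGroup.mk' B) ⊓ centralizer {(x : G ⧸ B)} := by
    ext y
    constructor
    · rintro ⟨g, hg, rfl⟩
      exact ⟨⟨g, hg.1, rfl⟩, hg.2⟩
    · rintro ⟨⟨g, hg, rfl⟩, h⟩
      exact ⟨g, ⟨hg, h⟩, rfl⟩
  have h2 : B ≤ U := fun b hb => (mU b).2 ⟨hK hb, by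
    rw [← mem_center_iff.1 (hc hb) x, mul_inv_cancel_right, mul_inv_cancel]
    exact one_mem _⟩
  have h3 := card_mul_relIndex h2
  rw [hB, ← QuotientGroup.ker_mk' B, relIndex_ker, h1] at h3
  have h4 : K ⊓ centralizer {x} = U ⊓ centralizer {x} := le_antisymm (fun g hg => ⟨(mU g).2 ⟨hg.1, by
    rw [mem_centralizer_singleton_iff.1 hg.2, mul_inv_cancel_right, mul_inv_cancel]
    exact one_mem _⟩, hg.2⟩) (inf_le_inf_right _ inf_le_left)
  by_cases h : ∀ g ∈ K, g * x * g⁻¹ * x⁻¹ ∈ B → g * x = x * g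
  · refine Or.inl ⟨?_, h⟩
    have h5 : U ≤ centralizer {x} := fun g hg => mem_centralizer_singleton_iff.2
      (h g ((mU g).1 hg).1 ((mU g).1 hg).2)
    rw [h4, inf_eq_left.2 h5, ← h3, mul_comm]
  refine Or.inr ⟨?_, h⟩
  let ψ : U →* G := MonoidHom.mk' (fun g => g * x * (g : G)⁻¹ * x⁻¹) fun a b => by
    have h5 := mem_center_iff.1 (hc ((mU b).1 b.2).2) a
    have h6 := mem_center_iff.1 (hc ((mU b).1 b.2).2) (a * x * (a : G)⁻¹ * x⁻¹)
    rw [h6, coe_mul, show (a : G) * b * x * (a * b : G)⁻¹ * x⁻¹ =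
      a * (b * x * (b : G)⁻¹ * x⁻¹) * (x * (a : G)⁻¹ * x⁻¹) by group, h5]
    group
  have h5 : ψ.ker = (centralizer {x}).subgroupOf U := by
    ext g
    rw [MonoidHom.mem_ker, mem_subgroupOf, mem_centralizer_singleton_iff]
    change (g : G) * x * (g : G)⁻¹ * x⁻¹ = 1 ↔ _
    rw [mul_inv_eq_one, mul_inv_eq_iff_eq_mul]
  have h6 : ψ.range = B := (eq_bot_or_eq_of_card_prime hp hB (by
    rintro _ ⟨g, rfl⟩
    exact ((mU g).1 g.2).2)).resolve_left fun e => h fun g hg h7 => by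
      have h8 : ψ ⟨g, (mU g).2 ⟨hg, h7⟩⟩ = 1 := mem_bot.1 (e ▸ ⟨_, rfl⟩)
      exact mul_inv_eq_iff_eq_mul.1 (mul_inv_eq_one.1 h8)
  have h7 := card_mul_relIndex (inf_le_left : U ⊓ centralizer {x} ≤ U)
  rw [inf_relIndex_left, relIndex, ← h5, index_ker, h6, hB, ← h3, ← h4, mul_comm] at h7
  exact (Nat.eq_of_mul_eq_mul_left hp.pos h7).symm

theorem cen [Fact p.Prime] {B R : Subgroup G} (hR : IsPGroup p R) (hB : B ≤ R) (h0 : B ≠ ⊥)
    (hn : ∀ r ∈ R, ∀ b ∈ B, r * b * r⁻¹ ∈ B) : ∃ b ∈ B, b ≠ 1 ∧ ∀ r ∈ R, r * b = b * r := by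
  haveI : (B.subgroupOf R).Normal := ⟨fun b hb r => hn r r.2 b hb⟩
  obtain ⟨z, h1, h2, h3⟩ := exists_mem_center_of_normal hR (N := B.subgroupOf R) fun e =>
    h0 (by rwa [subgroupOf_eq_bot, disjoint_iff, inf_eq_left.2 hB] at e)
  exact ⟨z, h1, fun e => h3 (Subtype.ext e), fun r hr =>
    congrArg Subtype.val (mem_center_iff.1 h2 ⟨r, hr⟩)⟩

theorem aux (p : ℕ) [hp : Fact p.Prime] (n : ℕ) : ∀ (G : Type u) [Group G] [Finite G],
    Nat.card G = n → ∀ (P : Sylow p G) (N : Subgroup G), N.Normal →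
    N.relIndex (P : Subgroup G) = p → ∀ x ∈ (P : Subgroup G), x ∉ N →
    Nat.card ((P : Subgroup G) ⊓ centralizer ({x} : Set G) : Subgroup G) = p ^ 2 →
    (Nat.card (centralizer ({x} : Set G))).factorization p = 2 := by
  induction n using Nat.strong_induction_on with
  | _ n ih =>
  intro G _ _ hn P N hN hi x hx hxN hE
  have p1 := hp.out.one_lt
  set E := (P : Subgroup G) ⊓ centralizer ({x} : Set G) with hEe
  have pE : IsPGroup p E := P.isPGroup'.to_le inf_le_left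
  have xE : x ∈ E := ⟨hx, mem_centralizer_singleton_iff.2 rfl⟩
  by_contra hf
  obtain ⟨Q, hQ⟩ := (pE.comap_subtype (K := centralizer {x})).exists_le_sylow
  set D0 := (Q : Subgroup (centralizer ({x} : Set G))).map (centralizer ({x} : Set G)).subtype
  have c0 : Nat.card D0 = p ^ (Nat.card (centralizer ({x} : Set G))).factorization p := by
    rw [card_map_of_injective (subtype_injective _), Q.card_eq_multiplicity]
  have pD0 : IsPGroup p D0 := Q.isPGroup'.map _
  have hE0 : E < D0 := lt_of_le_of_ne (fun g hg => ⟨⟨g, hg.2⟩, hQ hg, rfl⟩) fun e =>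
    hf (Nat.pow_right_injective p1 (c0.symm.trans (e ▸ hE)))
  have hD0 : D0 ≤ centralizer {x} := map_subtype_le _
  obtain ⟨d, d1, d2⟩ : ∃ d ∈ D0 ⊓ normalizer (E : Set G), d ∉ E := by
    haveI := pD0.isNilpotent
    obtain ⟨d, d1, d2⟩ := SetLike.exists_of_lt (Group.normalizerCondition_of_isNilpotent (E.subgroupOf D0)
      (lt_top_iff_ne_top.2 fun e => hE0.not_ge (subgroupOf_eq_top.1 e)))
    refine ⟨d, ⟨d.2, mem_normalizer_iff.2 fun y => ⟨fun h => ?_, fun h => ?_⟩⟩, d2⟩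
    · exact (mem_normalizer_iff.1 d1 ⟨y, hE0.le h⟩).1 h
    · have h1 := (mem_normalizer_iff.1 (inv_mem d1) ⟨_, hE0.le h⟩).1 h
      simpa [mem_subgroupOf, mul_assoc] using h1
  set D := D0 ⊓ normalizer (E : Set G)
  have hED : E ≤ D := le_inf hE0.le le_normalizer
  have pD : IsPGroup p D := pD0.to_le inf_le_left
  have big : p ^ 2 < Nat.card D := hE ▸ lt_of_le_of_ne (card_le_of_le hED) fun e =>
    d2 (eq_of_le_of_card_ge hED e.ge ▸ d1)
  have cP := card_mul_relIndex (inf_le_left : (P : Subgroup G) ⊓ N ≤ P)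
  rw [inf_relIndex_left, hi] at cP
  have hP2 : p ^ 2 < Nat.card P := by
    obtain ⟨R, hR⟩ := pD.exists_le_sylow
    exact big.trans_le ((card_le_of_le hR).trans_eq
      (R.card_eq_multiplicity.trans P.card_eq_multiplicity.symm))
  obtain ⟨z, hz, z1, z2⟩ := cen P.isPGroup' (inf_le_left : (P : Subgroup G) ⊓ N ≤ P) (fun e => by
      rw [e, card_bot, one_mul] at cP
      change p ^ 2 < Nat.card (P : Subgroup G) at hP2
      nlinarith)
    fun r hr b hb => ⟨P.1.mul_mem (P.1.mul_mem hr hb.1) (P.1.inv_mem hr), hN.conj_mem _ hb.2 r⟩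
  set B := E ⊓ N with hBe
  have zB : z ∈ B := ⟨⟨hz.1, mem_centralizer_singleton_iff.2 (z2 x hx).symm⟩, hz.2⟩
  have B0 : B ≠ ⊥ := fun e => z1 (mem_bot.1 (e ▸ zB))
  have cB : Nat.card B = p := by
    obtain ⟨k, hk, e⟩ := (Nat.dvd_prime_pow hp.out).1 (hE ▸ card_dvd_of_le (inf_le_left : B ≤ E))
    interval_cases k
    · exact absurd (card_eq_one.1 e) B0
    · rw [e, pow_one]
    · exact absurd ((eq_of_le_of_card_ge (inf_le_left : B ≤ E) (hE.trans e.symm).le).ge xE).2 hxN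
  have gen : ∀ b ∈ B, b ≠ 1 → ∀ r, r * b = b * r → r ∈ centralizer (B : Set G) := fun b hb b1 r h => by
    rw [← (eq_bot_or_eq_of_card_prime hp.out cB (zpowers_le.2 hb)).resolve_left
      fun e => b1 (zpowers_eq_bot.1 e)]
    rintro _ ⟨k, rfl⟩
    exact ((show Commute r b from h).zpow_right k).eq.symm
  have hPC : (P : Subgroup G) ≤ centralizer (B : Set G) := fun r hr => gen z zB z1 r (z2 r hr)
  have hDC : D ≤ centralizer (B : Set G) := by
    obtain ⟨b, hb, b1, b2⟩ := cen pD (inf_le_left.trans hED) B0 fun r hr b hb =>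
      ⟨(mem_normalizer_iff.1 hr.2 b).1 hb.1, hN.conj_mem _ hb.2 r⟩
    exact fun r hr => gen b hb b1 r (b2 r hr)
  by_cases hC : centralizer (B : Set G) = ⊤
  swap
  · have h1 := ih _ (hn ▸ lt_of_le_of_ne (card_le_card_group _) fun e => hC (eq_top_of_card_eq _ e))
      (centralizer (B : Set G)) rfl (P.subtype hPC)
      (N.subgroupOf _) inferInstance (by rw [Sylow.coe_subtype, relIndex_subgroupOf hPC, hi])
      ⟨x, hPC hx⟩ hx hxN (by
        rw [← hE, ← card_map_of_injective (subtype_injective _)]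
        congr 2
        ext g
        constructor
        · rintro ⟨g, hg, rfl⟩
          exact ⟨hg.1, mem_centralizer_singleton_iff.2
            (congrArg Subtype.val (mem_centralizer_singleton_iff.1 hg.2))⟩
        · intro hg
          exact ⟨⟨g, hPC hg.1⟩, ⟨hg.1, mem_centralizer_singleton_iff.2
            (Subtype.ext (mem_centralizer_singleton_iff.1 hg.2))⟩, rfl⟩)
    obtain ⟨k, hk⟩ := IsPGroup.iff_card.1 pD
    have h2 : D.subgroupOf (centralizer (B : Set G)) ≤ centralizer {⟨x, hPC hx⟩} := fun g hg =>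
      mem_centralizer_singleton_iff.2 (Subtype.ext (mem_centralizer_singleton_iff.1 (hD0 hg.1)))
    have h3 := card_dvd_of_le h2
    rw [Nat.card_congr (subgroupOfEquivOfLe hDC).toEquiv, hk,
      hp.out.pow_dvd_iff_le_factorization Nat.card_pos.ne', h1] at h3
    rw [hk] at big
    exact absurd (Nat.pow_le_pow_right p1.le h3) big.not_ge
  have hc : B ≤ center G := fun b hb => mem_center_iff.2 fun g =>
    ((hC ▸ mem_top g : g ∈ centralizer (B : Set G)) b hb).symm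
  haveI : B.Normal := ⟨fun b hb g => by
    rw [mem_center_iff.1 (hc hb) g, mul_inv_cancel_right]
    exact hb⟩
  have hBP : B ≤ P := inf_le_left.trans inf_le_left
  have hBN : B ≤ N := inf_le_right
  have sj := QuotientGroup.mk'_surjective B
  have xN : (x : G ⧸ B) ∉ N.map (QuotientGroup.mk' B) := fun h => hxN (by
    have h1 : x ∈ (N.map (QuotientGroup.mk' B)).comap (QuotientGroup.mk' B) := h
    rwa [comap_map_eq_self (by rwa [QuotientGroup.ker_mk'])] at h1)
  rcases lemA hp.out cB hc x hBP with ⟨h1, -⟩ | ⟨h1, h2⟩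
  · rw [hE, pow_two] at h1
    have h2 := Nat.eq_of_mul_eq_mul_right hp.out.pos h1
    have x1 : (x : G ⧸ B) ≠ 1 := fun e => xN (e ▸ one_mem _)
    have xP : (x : G ⧸ B) ∈ (P : Subgroup G).map (QuotientGroup.mk' B) := mem_map_of_mem _ hx
    obtain ⟨b, hb, b1, b2⟩ := cen (P.isPGroup'.map (QuotientGroup.mk' B)) le_rfl
      (fun e => x1 (mem_bot.1 (e ▸ xP))) fun r hr b hb => mul_mem (mul_mem hr hb) (inv_mem hr)
    have h3 := (eq_bot_or_eq_of_card_prime hp.out h2 (zpowers_le.2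
      ⟨hb, mem_centralizer_singleton_iff.2 (b2 _ xP).symm⟩)).resolve_left
      fun e => b1 (zpowers_eq_bot.1 e)
    obtain ⟨k, hk⟩ : (x : G ⧸ B) ∈ zpowers b := h3.symm ▸ ⟨xP, mem_centralizer_singleton_iff.2 rfl⟩
    rw [inf_eq_left.2 fun r hr => mem_centralizer_singleton_iff.2
      (hk ▸ ((show Commute r b from b2 r hr).zpow_right k).eq)] at h2
    have h4 := card_mul_relIndex hBP
    rw [cB, ← QuotientGroup.ker_mk' B, relIndex_ker, h2, ← pow_two] at h4
    exact hP2.ne h4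
  have h3 := ih (Nat.card (G ⧸ B)) (by
      rw [← hn, card_eq_card_quotient_mul_card_subgroup B, cB]
      exact lt_mul_of_one_lt_right Nat.card_pos p1) (G ⧸ B) rfl (P.mapSurjective sj)
    (N.map (QuotientGroup.mk' B)) (hN.map _ sj) (by
      rw [Sylow.coe_mapSurjective, relIndex_map_map, QuotientGroup.ker_mk', sup_eq_left.2 hBN,
        sup_eq_left.2 hBP, hi]) x (mem_map_of_mem _ hx) xN (h1.trans hE)
  rcases lemA hp.out cB hc x (le_top : B ≤ ⊤) with ⟨-, h4⟩ | ⟨h4, -⟩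
  · exact h2 fun g _ => h4 g (mem_top g)
  rw [← MonoidHom.range_eq_map, MonoidHom.range_eq_top.2 sj, top_inf_eq, top_inf_eq] at h4
  exact hf (h4 ▸ h3)

theorem ind : IndStmt.{u} := fun G _ _ p _ P N => aux p _ G rfl P N

end Cfsg.Agent.H82.McInd
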