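import Cfsg.Agent.H42.PcDefs

/-! Project PC: counting orbits. -/

set_option autoImplicit false

namespace Cfsg.Agent.H82.PcOrb

open Subgroup MulAction Cfsg.Agent.H42.Pc

universe u

open Classical in
theorem fib {H Ω : Type u} [Group H] [MulAction H Ω] (B : Finset Ω) (x : Ω)
    (h : ∀ g : H, g • x ∈ B) :
    (B.filter fun y => (Quotient.mk'' y : orbitRel.Quotient H Ω) = Quotient.mk'' x).card *
      Nat.card (stabilizer H x) = Nat.card H := by
  rw [← Nat.card_congr (orbitProdStabilizerEquivGroup H x), Nat.card_prod, Nat.card_coe_set_eq,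
    ← Set.ncard_coe_finset]
  congr 2
  ext y
  simp only [Finset.coe_filter, Set.mem_ofPred_eq, Quotient.eq'', orbitRel_apply]
  exact ⟨fun e => e.2, fun e => ⟨let ⟨g, hg⟩ := e; hg ▸ h g, e⟩⟩

theorem orb : OrbStmt.{u} := by
  intro S Ω _ _ _ _ T A c l hT hl h1 hc hA hTA hS x hx s hs
  classical
  haveI := Fintype.ofFinite Ω
  haveI := Fintype.ofFinite (orbitRel.Quotient S Ω)
  set n := Fintype.card (orbitRel.Quotient S Ω) with hn
  have pS : 0 < Nat.card S := Nat.card_pos
  have pT : 0 < Nat.card T := Nat.card_pos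
  have e1 : Nat.card Ω * c = n * Nat.card S := by
    rw [Nat.card_eq_fintype_card, ← Finset.card_univ, Finset.card_eq_sum_card_fiberwise
      (f := fun y => (Quotient.mk'' y : orbitRel.Quotient S Ω)) (t := Finset.univ)
      (fun _ _ => Finset.mem_univ _), Finset.sum_mul, hn, ← Finset.card_univ, ← smul_eq_mul,
      ← Finset.sum_const]
    refine Finset.sum_congr rfl fun q _ => ?_
    induction q using Quotient.inductionOn' with
    | h y => rw [← hc y]; exact fib Finset.univ y fun _ => Finset.mem_univ _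
  have pO : 0 < Nat.card Ω := Nat.pos_of_mul_pos_right (h1 ▸ pS)
  have e2 : c = n * l := Nat.eq_of_mul_eq_mul_left pO (by rw [e1, ← h1]; ring)
  have pn : 0 < n := Fintype.card_pos_iff.2 ⟨Quotient.mk'' x⟩
  have e3 : ∀ y : Ω, Nat.card (stabilizer T y) ≤ n := fun y => by
    obtain ⟨k, hk⟩ := IsPGroup.iff_card.1 (hT.to_subgroup (stabilizer T y))
    have h2 : Nat.card (stabilizer T y) ∣ n * l := by
      rw [← e2, ← hc y, ← card_map_of_injective (K := stabilizer T y) T.subtype_injective]
      refine card_dvd_of_le ?_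
      rintro _ ⟨t, ht, rfl⟩
      exact ht
    refine Nat.le_of_dvd pn (Nat.Coprime.dvd_of_dvd_mul_right ?_ h2)
    rw [hk]
    exact (Nat.coprime_two_left.2 hl).pow_left k
  let f : Ω → orbitRel.Quotient T Ω := fun y => Quotient.mk'' y
  have e4 : (A.toFinset.image f).card ≤ n := by
    refine Nat.le_of_mul_le_mul_right ?_ pT
    conv_rhs => rw [← hA, Nat.card_coe_set_eq, Set.ncard_eq_toFinset_card',
      Finset.card_eq_sum_card_image f, Finset.mul_sum]
    rw [← smul_eq_mul]
    refine Finset.card_nsmul_le_sum _ _ _ fun q hq => ?_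
    obtain ⟨y, hy, rfl⟩ := Finset.mem_image.1 hq
    rw [← fib (H := T) A.toFinset y fun t =>
      Set.mem_toFinset.2 (hTA y (Set.mem_toFinset.1 hy) t t.2), mul_comm]
    exact Nat.mul_le_mul_right _ (e3 y)
  let g : orbitRel.Quotient T Ω → orbitRel.Quotient S Ω :=
    Quotient.map' id fun a b ⟨t, ht⟩ => ⟨t.1, ht⟩
  have e5 := Finset.injOn_of_surjOn_of_card_le (s := A.toFinset.image f) (t := Finset.univ) g
    (fun _ _ => Finset.mem_univ _) (fun q _ => by
      induction q using Quotient.inductionOn' with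
      | h y =>
        obtain ⟨r, hr⟩ := hS y
        exact ⟨f (r • y), Finset.mem_coe.2 (Finset.mem_image_of_mem f (Set.mem_toFinset.2 hr)),
          Quotient.sound' ⟨r, rfl⟩⟩) e4
  have e6 : f (s • x) = f x := e5
    (Finset.mem_coe.2 (Finset.mem_image_of_mem f (Set.mem_toFinset.2 hs)))
    (Finset.mem_coe.2 (Finset.mem_image_of_mem f (Set.mem_toFinset.2 hx))) (Quotient.sound' ⟨s, rfl⟩)
  obtain ⟨t, ht⟩ := Quotient.exact' e6
  exact ⟨t, t.2, ht⟩

end Cfsg.Agent.H82.PcOrb
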